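import Groth.Agent.Lib.SemiPrufer.FibreDim
import Mathlib.AlgebraicGeometry.Fiber

/-! Dimensions of the fibres of schemes of finite type over Prüfer domains. -/

set_option autoImplicit false

universe u

open CategoryTheory AlgebraicGeometry

namespace GrothLib.SemiPrufer

variable {R : Type u} [CommRing R] {X : Scheme.{u}} (f : X ⟶ Spec (CommRingCat.of R))

/-- The structure map on the sections over an affine open. -/
noncomputable def sectionsMap {U : X.Opens} (hU : IsAffineOpen U) : R →+* Γ(X, U) :=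
  (Spec.preimage (hU.fromSpec ≫ f)).hom

theorem SpecMap_sectionsMap {U : X.Opens} (hU : IsAffineOpen U) :
    Spec.map (CommRingCat.ofHom (sectionsMap f hU)) = hU.fromSpec ≫ f :=
  Spec.map_preimage _

theorem sectionsMap_finiteType [LocallyOfFiniteType f] {U : X.Opens} (hU : IsAffineOpen U) :
    (sectionsMap f hU).FiniteType := by
  have h : LocallyOfFiniteType (Spec.map (CommRingCat.ofHom (sectionsMap f hU))) := by
    rw [SpecMap_sectionsMap]
    infer_instance
  exact (HasRingHomProperty.Spec_iff (P := @LocallyOfFiniteType)).1 h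

theorem map_sectionsMap {U V : X.Opens} (hU : IsAffineOpen U) (hV : IsAffineOpen V) (h : V ≤ U) :
    (X.presheaf.map (homOfLE h).op).hom.comp (sectionsMap f hU) = sectionsMap f hV := by
  have : CommRingCat.ofHom (sectionsMap f hU) ≫ X.presheaf.map (homOfLE h).op =
      CommRingCat.ofHom (sectionsMap f hV) := by
    apply Spec.map_injective
    rw [Spec.map_comp, SpecMap_sectionsMap, SpecMap_sectionsMap, ← Category.assoc, hU.map_fromSpec hV]
  exact congrArg CommRingCat.Hom.hom this

theorem fromSpec_specializes_iff {U : X.Opens} (hU : IsAffineOpen U) (p q : PrimeSpectrum Γ(X, U)) :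
    hU.fromSpec p ⤳ hU.fromSpec q ↔ p ≤ q :=
  hU.fromSpec.isEmbedding.isInducing.specializes_iff.trans (PrimeSpectrum.le_iff_specializes p q).symm

/-- The prime of the generic point. -/
theorem exists_generic [IrreducibleSpace X] {U : X.Opens} (hU : IsAffineOpen U)
    (hne : (U : Set X).Nonempty) : ∃ η : PrimeSpectrum Γ(X, U),
      hU.fromSpec η = genericPoint X ∧ ∀ p : PrimeSpectrum Γ(X, U), η ≤ p := by
  obtain ⟨η, hη⟩ : genericPoint X ∈ Set.range hU.fromSpec := by
    rw [hU.range_fromSpec]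
    exact ((genericPoint_spec X).mem_open_set_iff U.2).2 (by simpa using hne)
  exact ⟨η, hη, fun p => (fromSpec_specializes_iff hU η p).1 (hη ▸ (genericPoint_spec X).specializes (by simp))⟩

/-- The generic transcendence degree of an affine open. -/
noncomputable def genTr {U : X.Opens} (hU : IsAffineOpen U) (η : PrimeSpectrum Γ(X, U)) : ℕ :=
  letI := (sectionsMap f hU).toAlgebra
  Cardinal.toNat (tr R η.asIdeal)

theorem genTr_basicOpen {U : X.Opens} (hU : IsAffineOpen U) (r : Γ(X, U))
    (η : PrimeSpectrum Γ(X, U)) (η' : PrimeSpectrum Γ(X, X.basicOpen r))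
    (h : hU.fromSpec η = (hU.basicOpen r).fromSpec η') :
    genTr f (hU.basicOpen r) η' = genTr f hU η := by
  letI := (sectionsMap f hU).toAlgebra
  letI := (sectionsMap f (hU.basicOpen r)).toAlgebra
  haveI : IsScalarTower R Γ(X, U) Γ(X, X.basicOpen r) :=
    IsScalarTower.of_algebraMap_eq' (map_sectionsMap f hU (hU.basicOpen r) (X.basicOpen_le r)).symm
  haveI := hU.isLocalization_basicOpen r
  have hη : η'.asIdeal.under Γ(X, U) = η.asIdeal := by
    rw [← hU.map_fromSpec (hU.basicOpen r) (homOfLE (X.basicOpen_le r)).op, Scheme.Hom.comp_apply] at h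
    exact congrArg PrimeSpectrum.asIdeal (hU.fromSpec.isEmbedding.injective h).symm
  unfold genTr
  rw [tr_eq_of_away r η'.asIdeal, hη]

theorem genTr_eq [IrreducibleSpace X] {U V : X.Opens} (hU : IsAffineOpen U) (hV : IsAffineOpen V)
    {η : PrimeSpectrum Γ(X, U)} {η' : PrimeSpectrum Γ(X, V)}
    (h : hU.fromSpec η = genericPoint X) (h' : hV.fromSpec η' = genericPoint X) :
    genTr f hU η = genTr f hV η' := by
  have hx : genericPoint X ∈ (U : Set X) ∩ V :=
    ⟨h ▸ hU.range_fromSpec.le ⟨η, rfl⟩, h' ▸ hV.range_fromSpec.le ⟨η', rfl⟩⟩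
  obtain ⟨r, s, hrs, hxr⟩ := exists_basicOpen_le_affine_inter hU hV _ hx
  obtain ⟨z, hz⟩ : genericPoint X ∈ Set.range (hU.basicOpen r).fromSpec := by
    rw [(hU.basicOpen r).range_fromSpec]; exact hxr
  have key : ∀ (W W' : X.Opens) (hW : IsAffineOpen W) (hW' : IsAffineOpen W') (e : W = W')
      (z : PrimeSpectrum Γ(X, W)) (z' : PrimeSpectrum Γ(X, W')), hW.fromSpec z = hW'.fromSpec z' →
      genTr f hW z = genTr f hW' z' := by
    intro W W' hW hW' e z z' hzz
    subst e
    rw [hW.fromSpec.isEmbedding.injective hzz]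
  obtain ⟨z', hz'⟩ : genericPoint X ∈ Set.range (hV.basicOpen s).fromSpec := by
    rw [(hV.basicOpen s).range_fromSpec, ← hrs]; exact hxr
  rw [← genTr_basicOpen f hU r η z (h.trans hz.symm), ← genTr_basicOpen f hV s η' z' (h'.trans hz'.symm)]
  exact key _ _ (hU.basicOpen r) (hV.basicOpen s) hrs z z' (hz.trans hz'.symm)

variable [IsDomain R] (hR : ∀ (p : Ideal R) [p.IsPrime], ValuationRing (Localization.AtPrime p))

include hR in
theorem topologicalKrullDim_fiber [IrreducibleSpace X] [LocallyOfFiniteType f]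
    (γ : Spec (CommRingCat.of R)) (hne : Nonempty ↥(f.fiber γ)) {V : X.Opens} (hV : IsAffineOpen V)
    {ζ : PrimeSpectrum Γ(X, V)} (hζ : hV.fromSpec ζ = genericPoint X) :
    topologicalKrullDim ↥(f.fiber γ) = ((genTr f hV ζ : ℕ∞) : WithBot ℕ∞) := by
  let := specializationOrder ↥(f.fiber γ)
  rw [topologicalKrullDim, Order.krullDim_eq_of_orderIso (irreducibleSetEquivPoints (α := ↥(f.fiber γ)))]
  let ι := f.fiberι γ
  have hle : ∀ a b : ↥(f.fiber γ), a ≤ b ↔ ι b ⤳ ι a := fun a b =>
    ((f.fiberι γ).isEmbedding.isInducing.specializes_iff (x := b) (y := a)).symm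
  -- the fibre over an affine open
  have aff : ∀ {U : X.Opens} (hU : IsAffineOpen U), (U : Set X).Nonempty →
      letI := (sectionsMap f hU).toAlgebra
      (∀ (p : PrimeSpectrum Γ(X, U)), p.asIdeal.under R = γ.asIdeal ↔ f (hU.fromSpec p) = γ) ∧
      (Nonempty (FibrePrimes Γ(X, U) γ.asIdeal) →
        Order.krullDim (FibrePrimes Γ(X, U) γ.asIdeal) = ((genTr f hV ζ : ℕ∞) : WithBot ℕ∞)) := by
    intro U hU hUne
    letI := (sectionsMap f hU).toAlgebra
    haveI : Algebra.FiniteType R Γ(X, U) := sectionsMap_finiteType f hU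
    refine ⟨fun p => ?_, fun hn => ?_⟩
    · rw [← Scheme.Hom.comp_apply, ← SpecMap_sectionsMap f hU]
      exact (PrimeSpectrum.ext_iff (x := PrimeSpectrum.comap (sectionsMap f hU) p) (y := γ)).symm
    · obtain ⟨η, hη, hmin⟩ := exists_generic hU hUne
      haveI := γ.isPrime
      rw [krullDim_fibrePrimes hR (fun P hP => hmin ⟨P, hP⟩) γ.asIdeal, ← genTr_eq f hU hV hη hζ]
      rfl
  apply le_antisymm
  · refine iSup_le fun s => ?_
    obtain ⟨_, ⟨U, hU, rfl⟩, hxU, -⟩ :=
      X.isBasis_affineOpens.exists_subset_of_mem_open (Set.mem_univ (ι s.head)) isOpen_univ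
    have hU : IsAffineOpen U := hU
    letI := (sectionsMap f hU).toAlgebra
    obtain ⟨hiff, hdim⟩ := aff hU ⟨_, hxU⟩
    have hmem : ∀ i, ι (s i) ∈ Set.range hU.fromSpec := fun i => by
      rw [hU.range_fromSpec]
      exact ((hle _ _).1 (s.head_le i)).mem_open U.2 hxU
    choose p hp using hmem
    have hfib : ∀ i, (p i).asIdeal.under R = γ.asIdeal := fun i => (hiff _).2 (by
      rw [hp]
      exact (f.range_fiberι γ).le ⟨s i, rfl⟩)
    let t : LTSeries (FibrePrimes Γ(X, U) γ.asIdeal) := LTSeries.mk s.length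
      (fun i => ⟨p i.rev, hfib _⟩) fun i j hij => by
        have hlt : s j.rev < s i.rev := s.strictMono (Fin.rev_lt_rev.2 hij)
        refine lt_of_le_not_ge ((fromSpec_specializes_iff hU _ _).1 (by
          rw [hp, hp]; exact (hle _ _).1 hlt.le)) fun h => hlt.not_ge ((hle _ _).2 ?_)
        rw [← hp, ← hp]
        exact (fromSpec_specializes_iff hU _ _).2 h
    rw [← hdim ⟨t.head⟩]
    exact le_iSup (fun q : LTSeries (FibrePrimes Γ(X, U) γ.asIdeal) => ((q.length : ℕ∞) : WithBot ℕ∞)) t
  · obtain ⟨x⟩ := hne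
    obtain ⟨_, ⟨U, hU, rfl⟩, hxU, -⟩ :=
      X.isBasis_affineOpens.exists_subset_of_mem_open (Set.mem_univ (ι x)) isOpen_univ
    have hU : IsAffineOpen U := hU
    letI := (sectionsMap f hU).toAlgebra
    obtain ⟨hiff, hdim⟩ := aff hU ⟨_, hxU⟩
    obtain ⟨p, hp⟩ := hU.range_fromSpec.ge hxU
    rw [← hdim ⟨⟨p, (hiff p).2 (by rw [hp]; exact (f.range_fiberι γ).le ⟨x, rfl⟩)⟩⟩]
    have hmem : ∀ q : FibrePrimes Γ(X, U) γ.asIdeal, hU.fromSpec q.1 ∈ Set.range ι := fun q =>
      (f.range_fiberι γ).ge ((hiff q.1).1 q.2)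
    choose z hz using hmem
    rw [← Order.krullDim_orderDual]
    refine Order.krullDim_le_of_strictMono (fun q => z (OrderDual.ofDual q)) fun a b hab => ?_
    have hlt : (OrderDual.ofDual b).1 < (OrderDual.ofDual a).1 := hab
    refine lt_of_le_not_ge ((hle _ _).2 (by
      rw [hz, hz]; exact (fromSpec_specializes_iff hU _ _).2 hlt.le)) fun h => hlt.not_ge ?_
    refine (fromSpec_specializes_iff hU _ _).1 ?_
    rw [← hz, ← hz]
    exact (hle _ _).1 h

end GrothLib.SemiPrufer
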