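import Groth.Agent.Lib.SemiPrufer.FPAlg
import Groth.Agent.Lib.FlatFP.Kernel
import Groth.Agent.Lib.Ample.ModTwistQcoh
import Groth.Agent.Lib.Ample.CocPullback

/-! Finitely presented sheaves on flat schemes of finite type over a Prüfer domain. -/

set_option autoImplicit false
set_option linter.style.haveILetI false
set_option backward.isDefEq.respectTransparency false

universe u

open CategoryTheory CategoryTheory.Limits AlgebraicGeometry TopologicalSpace Opposite

noncomputable section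

namespace GrothLib.SemiPrufer

theorem qcoh_of_isFP {X : Scheme.{u}} {F : X.Modules} (hF : CohB1.IsFP F) : F.IsQuasicoherent := by
  haveI : SheafOfModules.IsFinitePresentation (R := X.ringCatSheaf) F := hF
  infer_instance

variable {R : Type u} [CommRing R]

/-- The structure map on sections over an open. -/
def strMap {X : Scheme.{u}} (q : X ⟶ Spec (CommRingCat.of R)) (W : X.Opens) : R →+* Γ(X, W) :=
  (q.appLE ⊤ W le_top).hom.comp (Scheme.ΓSpecIso (CommRingCat.of R)).inv.hom

theorem finiteType_strMap {X : Scheme.{u}} (q : X ⟶ Spec (CommRingCat.of R))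
    [LocallyOfFiniteType q] {W : X.Opens} (hW : IsAffineOpen W) : (strMap q W).FiniteType :=
  RingHom.FiniteType.comp
    (HasRingHomProperty.appLE @LocallyOfFiniteType q ‹_› ⟨⊤, isAffineOpen_top _⟩ ⟨W, hW⟩ le_top)
    (RingHom.FiniteType.of_surjective _
      (Scheme.ΓSpecIso (CommRingCat.of R)).commRingCatIsoToRingEquiv.symm.surjective)

theorem torsionFree_strMap [IsDomain R] {X : Scheme.{u}} (q : X ⟶ Spec (CommRingCat.of R))
    [Flat q] {W : X.Opens} (hW : IsAffineOpen W) (a : R) (b : Γ(X, W)) (ha : a ≠ 0)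
    (h : strMap q W a * b = 0) : b = 0 := by
  have hfl : (strMap q W).Flat := RingHom.Flat.comp
    (RingHom.Flat.of_bijective (Scheme.ΓSpecIso (CommRingCat.of R)).commRingCatIsoToRingEquiv.symm.bijective)
    (HasRingHomProperty.appLE @Flat q ‹_› ⟨⊤, isAffineOpen_top _⟩ ⟨W, hW⟩ le_top)
  algebraize [strMap q W]
  haveI : Module.Flat R Γ(X, W) := hfl
  exact (smul_eq_zero.1 ((Algebra.smul_def a b).trans h)).resolve_left ha

variable [IsDomain R] (hR : ∀ (p : Ideal R) [p.IsPrime], ValuationRing (Localization.AtPrime p))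

include hR in
/-- Kernels of epimorphisms of finitely presented modules are finitely presented. -/
theorem isFP_kernel {X : Scheme.{u}} (q : X ⟶ Spec (CommRingCat.of R)) [LocallyOfFiniteType q]
    [Flat q] (G H : X.Modules) (hG : CohB1.IsFP G) (hH : CohB1.IsFP H) (p : G ⟶ H) [Epi p] :
    CohB1.IsFP (kernel p) := by
  haveI := qcoh_of_isFP hG
  haveI := qcoh_of_isFP hH
  haveI := QCoh.isQuasicoherent_kernel p
  let S : ShortComplex X.Modules := ShortComplex.mk (kernel.ι p) p (kernel.condition p)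
  have hS : S.ShortExact := { exact := ShortComplex.exact_kernel p }
  refine FlatFP.isFP_of_sections (kernel p) (fun U : X.affineOpens => U.1)
    (iSup_affineOpens_eq_top X) (fun U => U.2) fun U => ?_
  haveI := FlatFP.finitePresentation_sections G hG U.2
  haveI := FlatFP.finitePresentation_sections H hH U.2
  have hsurj : Function.Surjective (QCoh.appLinear p U.1) :=
    @QCoh.app_surjective_of_isAffineOpen _ _ hS (inferInstanceAs (kernel p).IsQuasicoherent) U.1 U.2
  have hft := finiteType_strMap q U.2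
  letI : Algebra R Γ(X, U.1) := (strMap q U.1).toAlgebra
  haveI : Algebra.FiniteType R Γ(X, U.1) := hft
  haveI := finitePresentation_ker hR
    (fun a b ha h => torsionFree_strMap q U.2 a b ha h) (QCoh.appLinear p U.1) hsurj
  let i : Γ(kernel p, U.1) →ₗ[Γ(X, U.1)] LinearMap.ker (QCoh.appLinear p U.1) :=
    LinearMap.codRestrict _ (QCoh.appLinear (kernel.ι p) U.1) fun z => by
      show (kernel.ι p ≫ p).app U.1 z = 0
      rw [kernel.condition]
      rfl
  refine Module.FinitePresentation.of_equiv (LinearEquiv.ofBijective i ⟨fun a b hab => ?_, ?_⟩).symm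
  · exact QCoh.app_injective hS U.1 (congrArg Subtype.val hab)
  · rintro ⟨z, hz⟩
    obtain ⟨w, hw⟩ := QCoh.app_exact hS U.1 z hz
    exact ⟨w, Subtype.ext hw⟩

include hR in
/-- The direct image of a finitely presented module along a closed immersion of a flat scheme. -/
theorem isFP_pushforward {X Y : Scheme.{u}} (j : X ⟶ Y) [IsClosedImmersion j]
    (s : Y ⟶ Spec (CommRingCat.of R)) [LocallyOfFiniteType s] [Flat (j ≫ s)] (F : X.Modules)
    (hF : CohB1.IsFP F) : CohB1.IsFP ((Scheme.Modules.pushforward j).obj F) := by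
  haveI := qcoh_of_isFP hF
  haveI := QCoh.isQuasicoherent_pushforward j F
  refine FlatFP.isFP_of_sections _ (fun U : Y.affineOpens => U.1)
    (iSup_affineOpens_eq_top Y) (fun U => U.2) fun U => ?_
  obtain ⟨W, hW⟩ := U
  have hW' : IsAffineOpen (j ⁻¹ᵁ W) := hW.preimage j
  haveI := FlatFP.finitePresentation_sections F hF hW'
  have hft := finiteType_strMap s hW
  have htf := torsionFree_strMap (j ≫ s) hW'
  letI : Algebra R Γ(Y, W) := (strMap s W).toAlgebra
  haveI : Algebra.FiniteType R Γ(Y, W) := hft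
  letI : Algebra R Γ(X, j ⁻¹ᵁ W) := (strMap (j ≫ s) (j ⁻¹ᵁ W)).toAlgebra
  letI : Algebra Γ(Y, W) Γ(X, j ⁻¹ᵁ W) := (j.app W).hom.toAlgebra
  haveI : IsScalarTower R Γ(Y, W) Γ(X, j ⁻¹ᵁ W) := IsScalarTower.of_algebraMap_eq fun a => by
    change (j ≫ s).appLE ⊤ (j ⁻¹ᵁ W) le_top _ = j.app W (s.appLE ⊤ W le_top _)
    rw [Scheme.Hom.app_eq_appLE]
    exact (ConcreteCategory.congr_hom (Scheme.Hom.appLE_comp_appLE j s ⊤ W (j ⁻¹ᵁ W) le_top le_rfl) _).symm
  haveI : Module.Finite Γ(Y, W) Γ(X, j ⁻¹ᵁ W) :=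
    Module.Finite.of_surjective (Algebra.linearMap Γ(Y, W) Γ(X, j ⁻¹ᵁ W)) (j.app_surjective W hW)
  haveI : Module.FinitePresentation Γ(Y, W) Γ(X, j ⁻¹ᵁ W) :=
    finitePresentation_finite_algebra hR fun a b ha h => htf a b ha h
  letI : Module Γ(Y, W) Γ(F, j ⁻¹ᵁ W) := Module.compHom _ (j.app W).hom
  haveI : IsScalarTower Γ(Y, W) Γ(X, j ⁻¹ᵁ W) Γ(F, j ⁻¹ᵁ W) :=
    IsScalarTower.of_algebraMap_smul fun _ _ => rfl
  haveI : Module.FinitePresentation Γ(Y, W) Γ(F, j ⁻¹ᵁ W) :=
    Module.FinitePresentation.trans Γ(Y, W) Γ(F, j ⁻¹ᵁ W) Γ(X, j ⁻¹ᵁ W)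
  let e : Γ(F, j ⁻¹ᵁ W) ≃ₗ[Γ(Y, W)] Γ((Scheme.Modules.pushforward j).obj F, W) :=
    { toFun := fun x => x
      invFun := fun x => x
      left_inv := fun _ => rfl
      right_inv := fun _ => rfl
      map_add' := fun _ _ => rfl
      map_smul' := fun r x => by
        refine Eq.trans ?_ (Ample.pushforward_smul j F r x).symm
        change (j.app W r) • x = _
        rw [Scheme.Hom.app_eq_appLE] }
  exact Module.FinitePresentation.of_equiv e

/-- Twists of finitely presented modules are finitely presented. -/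
theorem isFP_modTwist {X : Scheme.{u}} (c : Ample.Cocycle X) (M : X.Modules) (hM : CohB1.IsFP M)
    (n : ℕ) : CohB1.IsFP (c.modTwist M n) := by
  haveI := qcoh_of_isFP hM
  haveI := c.isQuasicoherent_modTwist M n
  refine FlatFP.isFP_of_sections _ (fun p : Σ i, {W : X.Opens // IsAffineOpen W ∧ W ≤ c.D i} => p.2.1)
    (top_le_iff.mp fun x _ => ?_) (fun p => p.2.2.1) fun p => ?_
  · obtain ⟨i, hi⟩ := c.exists_mem x
    obtain ⟨W, hW, hxW, hWD⟩ := exists_isAffineOpen_mem_and_subset hi
    exact Opens.mem_iSup.mpr ⟨⟨i, W, hW, hWD⟩, hxW⟩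
  · obtain ⟨i, W, hW, hWD⟩ := p
    haveI := FlatFP.finitePresentation_sections M hM hW
    exact Module.FinitePresentation.of_equiv (c.mbaseEquiv M n i hWD)

end GrothLib.SemiPrufer
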