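import Groth.Agent.Lib.SemiPrufer.Delta
import Groth.Prelude.Def_Found

/-! A dimension function on the spectrum gives catenarity. -/

set_option autoImplicit false

universe u

namespace GrothLib.SemiPrufer

theorem add_le_of_lt {α : Type*} [Preorder α] (f : α → ℤ) (hlt : ∀ a b, a < b → f b < f a)
    (s : LTSeries α) : f s.last + s.length ≤ f s.head := by
  have key : ∀ i : Fin (s.length + 1), f (s i) + (i : ℕ) ≤ f s.head := fun i => by
    induction i using Fin.induction with
    | zero => simp [RelSeries.head]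
    | succ i ih =>
      have := hlt _ _ (s.step i)
      simp only [Fin.val_succ, Fin.val_castSucc, Nat.cast_add, Nat.cast_one] at ih ⊢
      omega
  simpa [RelSeries.last] using key (Fin.last _)

theorem add_eq_of_covBy {α : Type*} [Preorder α] (f : α → ℤ)
    (hcov : ∀ a b, a ⋖ b → f a = f b + 1) (s : LTSeries α)
    (hs : ∀ i : Fin s.length, s (Fin.castSucc i) ⋖ s (Fin.succ i)) :
    f s.last + s.length = f s.head := by
  have key : ∀ i : Fin (s.length + 1), f (s i) + (i : ℕ) = f s.head := fun i => by
    induction i using Fin.induction with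
    | zero => simp [RelSeries.head]
    | succ i ih =>
      have := hcov _ _ (hs i)
      simp only [Fin.val_succ, Fin.val_castSucc, Nat.cast_add, Nat.cast_one] at ih ⊢
      omega
  simpa [RelSeries.last] using key (Fin.last _)

theorem isCatenary_of_dimFunction {R : Type u} [CommRing R] (f : PrimeSpectrum R → ℤ)
    (hlt : ∀ a b, a < b → f b < f a) (hcov : ∀ a b, a ⋖ b → f a = f b + 1) :
    CAlg.IsCatenary R := by
  refine ⟨fun p q _ => ⟨(f p - f q).toNat, fun s hp hq => ?_⟩, fun s t hh hl hs ht => ?_⟩
  · have := add_le_of_lt f hlt s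
    rw [hp, hq] at this
    omega
  · have h1 := add_eq_of_covBy f hcov s hs
    have h2 := add_eq_of_covBy f hcov t ht
    rw [hh, hl] at h1
    omega

theorem krullDim_lt_top_of_dimFunction {R : Type u} [CommRing R] (f : PrimeSpectrum R → ℤ)
    (hlt : ∀ a b, a < b → f b < f a) {m n : ℤ} (hm : ∀ a, m ≤ f a) (hn : ∀ a, f a ≤ n) :
    ringKrullDim R < ⊤ := by
  have h : ∀ s : LTSeries (PrimeSpectrum R), s.length ≤ (n - m).toNat := fun s => by
    have := add_le_of_lt f hlt s
    have := hm s.last
    have := hn s.head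
    omega
  refine lt_of_le_of_lt (b := ((((n - m).toNat : ℕ∞)) : WithBot ℕ∞)) ?_ ?_
  · exact iSup_le fun s => by exact_mod_cast h s
  · exact WithBot.coe_lt_coe.2 (ENat.coe_lt_top _)

/-- The dimension function passes to localisations. -/
theorem isCatenary_localization {S T : Type u} [CommRing S] [CommRing T] [Algebra S T]
    (M : Submonoid S) [IsLocalization M T] (f : PrimeSpectrum S → ℤ)
    (hlt : ∀ a b, a < b → f b < f a) (hcov : ∀ a b, a ⋖ b → f a = f b + 1) {m n : ℤ}
    (hm : ∀ a, m ≤ f a) (hn : ∀ a, f a ≤ n) :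
    CAlg.IsCatenary T ∧ ringKrullDim T < ⊤ := by
  let c : PrimeSpectrum T → PrimeSpectrum S := PrimeSpectrum.comap (algebraMap S T)
  have hinj : Function.Injective c := PrimeSpectrum.localization_comap_injective T M
  have hmono : StrictMono c := Monotone.strictMono_of_injective
    (fun a b hab => Ideal.comap_mono hab) hinj
  have hle : ∀ a b, c a ≤ c b → a ≤ b := fun a b hab => by
    rw [← PrimeSpectrum.asIdeal_le_asIdeal, ← IsLocalization.map_comap M T a.asIdeal,
      ← IsLocalization.map_comap M T b.asIdeal]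
    exact Ideal.map_mono hab
  have hlt' : ∀ a b, a < b → f (c b) < f (c a) := fun a b hab => hlt _ _ (hmono hab)
  refine ⟨isCatenary_of_dimFunction (fun a => f (c a)) hlt' fun a b hab => hcov _ _
      ⟨hmono hab.lt, fun z h1 h2 => ?_⟩,
    krullDim_lt_top_of_dimFunction (fun a => f (c a)) hlt' (fun a => hm _) (fun a => hn _)⟩
  obtain ⟨z', hz'⟩ : z ∈ Set.range c := by
    rw [PrimeSpectrum.localization_comap_range T M]
    refine Set.disjoint_left.2 fun x hx hxz => ?_
    have hxb : x ∈ (c b).asIdeal := h2.le hxz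
    exact b.isPrime.ne_top (Ideal.eq_top_of_isUnit_mem _ hxb (IsLocalization.map_units T ⟨x, hx⟩))
  subst hz'
  exact hab.2 (lt_of_le_not_ge (hle _ _ h1.le) fun h => h1.ne (congrArg c (le_antisymm (hle _ _ h1.le) h)))
    (lt_of_le_not_ge (hle _ _ h2.le) fun h => h2.ne (congrArg c (le_antisymm (hle _ _ h2.le) h)))

end GrothLib.SemiPrufer
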