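import Groth.Agent.Lib.SemiPrufer.TrdegDelta

/-! `trdeg - height` is a dimension function for algebras of finite type over a Prüfer domain. -/

set_option autoImplicit false

universe u

namespace GrothLib.SemiPrufer

variable {R : Type u} [CommRing R] {S : Type u} [CommRing S] [Algebra R S]

/-- The dimension function `trdeg - height`. -/
noncomputable def delta (R : Type u) [CommRing R] {S : Type u} [CommRing S] [Algebra R S]
    (P : Ideal S) : ℤ :=
  (Cardinal.toNat (tr R P) : ℤ) - ((P.under R).height.toNat : ℤ)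

variable [IsDomain R] (hR : ∀ (p : Ideal R) [p.IsPrime], ValuationRing (Localization.AtPrime p))
  [Algebra.FiniteType R S] [FiniteRingKrullDim R]

theorem tr_lt_aleph0 (P : Ideal S) [P.IsPrime] : tr R P < Cardinal.aleph0 := by
  obtain ⟨e, x, -, -, he⟩ := exists_indep_alg (R := R) P
  exact he ▸ Cardinal.natCast_lt_aleph0

theorem height_toNat_lt {p q : Ideal R} [p.IsPrime] [q.IsPrime] (h : p < q) :
    p.height.toNat < q.height.toNat := by
  have h1 := Ideal.height_strict_mono_of_isPrime_of_isPrime h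
  obtain ⟨a, ha⟩ := ENat.ne_top_iff_exists.1 h1.ne_top
  obtain ⟨b, hb⟩ := ENat.ne_top_iff_exists.1 (Ideal.height_ne_top_of_isPrime (I := q))
  rw [← ha, ← hb] at h1 ⊢
  simpa using h1

include hR in
theorem height_toNat_of_covBy {p q : Ideal R} [p.IsPrime] [q.IsPrime] (h : p < q)
    (hcov : ∀ r : Ideal R, r.IsPrime → p ≤ r → r ≤ q → r = p ∨ r = q) :
    q.height.toNat = p.height.toNat + 1 := by
  obtain ⟨a, ha⟩ := ENat.ne_top_iff_exists.1 (Ideal.height_ne_top_of_isPrime (I := p))
  have h1 : q.height ≤ (a + 1 : ℕ) := by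
    rw [PrimeSpectrum.height_eq_orderHeight ⟨q, inferInstance⟩, Order.height_le_coe_iff]
    intro r hr
    rw [← PrimeSpectrum.height_eq_orderHeight]
    have hle : r.asIdeal ≤ p := by
      rcases comparable_of_le (hR q) r.isPrime inferInstance hr.le h.le with h' | h'
      · exact h'
      · rcases hcov _ r.isPrime h' hr.le with h'' | h''
        · exact h''.le
        · exact absurd (PrimeSpectrum.ext h'') hr.ne
    exact lt_of_le_of_lt ((Ideal.height_mono hle).trans ha.ge) (by exact_mod_cast Nat.lt_succ_self a)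
  have h2 := height_toNat_lt h
  obtain ⟨b, hb⟩ := ENat.ne_top_iff_exists.1 (Ideal.height_ne_top_of_isPrime (I := q))
  rw [← hb] at h1
  rw [← ha, ← hb] at h2 ⊢
  simp only [ENat.toNat_coe] at h2 ⊢
  have h3 : b ≤ a + 1 := by exact_mod_cast h1
  omega

section Pair

variable {P Q : Ideal S} [P.IsPrime] [Q.IsPrime]

include hR in
theorem delta_lt (h : P < Q) : delta R Q < delta R P := by
  have hle : P.under R ≤ Q.under R := Ideal.comap_mono h.le
  unfold delta
  rcases hle.eq_or_lt with hu | hu
  · have := Cardinal.toNat_lt_toNat (tr_lt_of_lt hR h hu) (tr_lt_aleph0 P)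
    rw [hu]
    omega
  · have h1 := Cardinal.toNat_le_toNat (tr_mono hR h.le) (tr_lt_aleph0 P)
    have h2 := height_toNat_lt hu
    omega

include hR in
theorem delta_of_covBy (h : P < Q)
    (hcov : ∀ Q' : Ideal S, Q'.IsPrime → P ≤ Q' → Q' ≤ Q → Q' = P ∨ Q' = Q) :
    delta R P = delta R Q + 1 := by
  have hle : P.under R ≤ Q.under R := Ideal.comap_mono h.le
  unfold delta
  rcases hle.eq_or_lt with hu | hu
  · rw [tr_eq_succ_of_covBy hR h hu hcov, hu, Cardinal.toNat_add (tr_lt_aleph0 Q) Cardinal.one_lt_aleph0]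
    simp only [Cardinal.one_toNat]
    omega
  · have htr : tr R P = tr R Q := tr_eq_of_minimal hR h.le fun Q' hQ' h1 h2 h3 =>
      (hcov Q' hQ' h1 h2).resolve_left fun e => hu.ne (by rw [← h3, e])
    have hht := height_toNat_of_covBy hR hu fun r hr h1 h2 => by
      haveI := hr
      obtain ⟨Q', hQ', h3, h4, h5⟩ := exists_between hR h.le h1 h2
      rcases hcov Q' hQ' h3 h4 with e | e <;> subst e
      · exact Or.inl h5.symm
      · exact Or.inr h5.symm
    rw [htr, hht]
    omega

end Pair

include hR in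
theorem delta_sub_eq_one_iff {P Q : PrimeSpectrum S} (h : P < Q) :
    P ⋖ Q ↔ delta R P.asIdeal = delta R Q.asIdeal + 1 := by
  constructor
  · intro hc
    refine delta_of_covBy hR (show P.asIdeal < Q.asIdeal from h) fun Q' hQ' h1 h2 => ?_
    exact (hc.eq_or_eq (c := ⟨Q', hQ'⟩) h1 h2).imp (congrArg PrimeSpectrum.asIdeal)
      (congrArg PrimeSpectrum.asIdeal)
  · intro he
    refine ⟨h, fun c h1 h2 => ?_⟩
    have a1 := delta_lt hR (show P.asIdeal < c.asIdeal from h1)
    have a2 := delta_lt hR (show c.asIdeal < Q.asIdeal from h2)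
    omega

theorem delta_ge (P : Ideal S) [P.IsPrime] :
    -(((Order.krullDim (PrimeSpectrum R)).unbotD 0).toNat : ℤ) ≤ delta R P := by
  have h1 : (P.under R).height.toNat ≤ ((Order.krullDim (PrimeSpectrum R)).unbotD 0).toNat := by
    have h2 := Ideal.height_le_ringKrullDim_of_ne_top (I := P.under R)
      (inferInstance : (P.under R).IsPrime).ne_top
    have h3 : ringKrullDim R < ⊤ := ringKrullDim_lt_top
    unfold ringKrullDim at h2 h3
    cases hd : Order.krullDim (PrimeSpectrum R) with
    | bot => simp [hd] at h2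
    | coe d =>
      rw [hd] at h2 h3
      exact ENat.toNat_le_toNat (WithBot.coe_le_coe.1 h2) (by
        rintro rfl
        exact h3.ne rfl)
  unfold delta
  omega

theorem exists_delta_le : ∃ n : ℕ, ∀ P : Ideal S, P.IsPrime → delta R P ≤ n := by
  obtain ⟨n, f, hf⟩ := Algebra.FiniteType.iff_quotient_mvPolynomial''.1 (inferInstance : Algebra.FiniteType R S)
  refine ⟨n, fun P hP => ?_⟩
  haveI : FaithfulSMul (R ⧸ P.under R) (S ⧸ P) := (faithfulSMul_iff_algebraMap_injective _ _).2
    Ideal.quotientMap_injective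
  let g : MvPolynomial (Fin n) (R ⧸ P.under R) →ₐ[R ⧸ P.under R] S ⧸ P :=
    MvPolynomial.aeval fun i => Ideal.Quotient.mk P (f (MvPolynomial.X i))
  have hg : Function.Surjective g := fun z => by
    obtain ⟨y, rfl⟩ := Ideal.Quotient.mk_surjective z
    obtain ⟨p, rfl⟩ := hf y
    refine ⟨MvPolynomial.map (Ideal.Quotient.mk (P.under R)) p, ?_⟩
    rw [← mk_aeval (R := R) (fun i => f (MvPolynomial.X i)) p]
    congr 1
    exact (MvPolynomial.aeval_unique f ▸ rfl)
  have h1 : tr R P ≤ n := by
    refine (trdeg_le_of_surjective g hg).trans ?_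
    rw [MvPolynomial.trdeg_of_isDomain]
    simp
  have h2 := Cardinal.toNat_le_toNat h1 Cardinal.natCast_lt_aleph0
  rw [Cardinal.toNat_natCast] at h2
  unfold delta
  omega

end GrothLib.SemiPrufer
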