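import Mathlib
import Groth.Agent.Lib.NagataFP.Prufer

/-! Finite presentation of torsion free modules over algebras of finite type over Prüfer domains. -/

set_option autoImplicit false

universe u

open MvPolynomial

namespace GrothLib.SemiPrufer

variable {R : Type u} [CommRing R] [IsDomain R]

/-- A finite module over an algebra of finite type over a Prüfer domain which is torsion free over
the base is finitely presented. -/
theorem finitePresentation_of_torsionFree_algebra
    (hR : ∀ (p : Ideal R) [p.IsPrime], ValuationRing (Localization.AtPrime p))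
    {B : Type u} [CommRing B] [Algebra R B] [Algebra.FiniteType R B] {M : Type u} [AddCommGroup M]
    [Module B M] [Module.Finite B M]
    (hM : ∀ (a : R) (m : M), a ≠ 0 → algebraMap R B a • m = 0 → m = 0) :
    Module.FinitePresentation B M := by
  classical
  obtain ⟨n, f, hf⟩ := Algebra.FiniteType.iff_quotient_mvPolynomial''.1
    (inferInstance : Algebra.FiniteType R B)
  let P := MvPolynomial (Fin n) R
  letI : Algebra P B := f.toRingHom.toAlgebra
  have hsurj : Function.Surjective (algebraMap P B) := hf
  letI : Module P M := Module.compHom M (algebraMap P B)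
  haveI : IsScalarTower P B M := IsScalarTower.of_algebraMap_smul fun _ _ => rfl
  haveI : Module.Finite P B := Module.Finite.of_surjective (Algebra.linearMap P B) hsurj
  haveI : Module.Finite P M := Module.Finite.trans B M
  haveI : Module.FinitePresentation P M :=
    NagataFP.finitePresentation_of_prufer hR fun a m ha h => hM a m ha <| by
      have h' : algebraMap P B (C a) • m = 0 := h
      rwa [show algebraMap P B (C a) = algebraMap R B a from f.commutes a] at h'
  refine FinitePresentation.of_isBaseChange (A := B) (LinearMap.id (R := P) (M := M)) ?_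
  refine IsBaseChange.of_lift_unique _ fun Q _ _ _ _ g => ?_
  refine ⟨{ g with map_smul' := fun a x => ?_ }, LinearMap.ext fun _ => rfl, fun h hh => ?_⟩
  · obtain ⟨a', rfl⟩ := hsurj a
    show g (algebraMap P B a' • x) = algebraMap P B a' • g x
    rw [algebraMap_smul, algebraMap_smul, map_smul]
  · exact LinearMap.ext fun x => LinearMap.congr_fun hh x

/-- A finite algebra, torsion free over the Prüfer domain, is a finitely presented module. -/
theorem finitePresentation_finite_algebra
    (hR : ∀ (p : Ideal R) [p.IsPrime], ValuationRing (Localization.AtPrime p))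
    {B B' : Type u} [CommRing B] [CommRing B'] [Algebra R B] [Algebra.FiniteType R B] [Algebra R B']
    [Algebra B B'] [IsScalarTower R B B'] [Module.Finite B B']
    (hB' : ∀ (a : R) (b : B'), a ≠ 0 → algebraMap R B' a * b = 0 → b = 0) :
    Module.FinitePresentation B B' :=
  finitePresentation_of_torsionFree_algebra hR fun a b ha h => hB' a b ha <| by
    rwa [IsScalarTower.algebraMap_apply R B B', ← Algebra.smul_def]

/-- Over an algebra of finite type, torsion free over a Prüfer domain, the kernel of a surjection of
finitely presented modules is finitely presented. -/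
theorem finitePresentation_ker
    (hR : ∀ (p : Ideal R) [p.IsPrime], ValuationRing (Localization.AtPrime p))
    {B : Type u} [CommRing B] [Algebra R B] [Algebra.FiniteType R B]
    (hB : ∀ (a : R) (b : B), a ≠ 0 → algebraMap R B a * b = 0 → b = 0)
    {M N : Type u} [AddCommGroup M] [Module B M] [Module.FinitePresentation B M] [AddCommGroup N]
    [Module B N] [Module.FinitePresentation B N] (φ : M →ₗ[B] N) (hφ : Function.Surjective φ) :
    Module.FinitePresentation B (LinearMap.ker φ) := by
  classical
  obtain ⟨r, π, hπ⟩ := Module.Finite.exists_fin' B M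
  let J : Submodule B (Fin r → B) := LinearMap.ker (φ ∘ₗ π)
  haveI : Module.Finite B J := Module.Finite.iff_fg.2
    (Module.FinitePresentation.fg_ker (φ ∘ₗ π) (hφ.comp hπ))
  haveI : Module.FinitePresentation B J :=
    finitePresentation_of_torsionFree_algebra hR fun a m ha h =>
      Subtype.ext (funext fun i => hB a (m.1 i) ha (congrFun (congrArg Subtype.val h) i))
  let ψ : J →ₗ[B] LinearMap.ker φ :=
    LinearMap.codRestrict _ (π ∘ₗ J.subtype) fun x => x.2
  have hψ : Function.Surjective ψ := fun y => by
    obtain ⟨x, hx⟩ := hπ y.1
    exact ⟨⟨x, show φ (π x) = 0 from hx.symm ▸ y.2⟩, Subtype.ext hx⟩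
  refine Module.finitePresentation_of_surjective ψ hψ ?_
  haveI : Module.Finite B (LinearMap.ker π) :=
    Module.Finite.iff_fg.2 (Module.FinitePresentation.fg_ker π hπ)
  let incl : LinearMap.ker π →ₗ[B] J := LinearMap.codRestrict _ (LinearMap.ker π).subtype fun x =>
    show φ (π x.1) = 0 by rw [show π x.1 = 0 from x.2, map_zero]
  have hk : LinearMap.ker ψ = LinearMap.range incl := by
    refine le_antisymm (fun x hx => ⟨⟨x.1, congrArg Subtype.val hx⟩, rfl⟩) ?_
    rintro _ ⟨x, rfl⟩
    exact Subtype.ext x.2
  rw [hk]
  exact Module.Finite.iff_fg.1 inferInstance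

end GrothLib.SemiPrufer
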