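import Groth.Agent.Lib.SemiPrufer.Catenary

/-! Dimensions of the fibres of algebras of finite type over Prüfer domains. -/

set_option autoImplicit false

universe u

namespace GrothLib.SemiPrufer

variable {R : Type u} [CommRing R] {S : Type u} [CommRing S] [Algebra R S]

theorem tr_eq_trdeg (P : Ideal S) (I : Ideal R) (h : P.under R = I) [Algebra (R ⧸ I) (S ⧸ P)]
    [IsScalarTower R (R ⧸ I) (S ⧸ P)] : tr R P = Algebra.trdeg (R ⧸ I) (S ⧸ P) := by
  subst h
  unfold tr
  congr 1
  refine Algebra.algebra_ext _ _ fun z => ?_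
  obtain ⟨r, rfl⟩ := Ideal.Quotient.mk_surjective z
  exact (show _ = algebraMap R (S ⧸ P) r from rfl).trans
    (IsScalarTower.algebraMap_apply R (R ⧸ P.under R) (S ⧸ P) r)

/-- The residual transcendence degree does not see localisations away from an element. -/
theorem tr_eq_of_away {T : Type u} [CommRing T] [Algebra R T] [Algebra S T] [IsScalarTower R S T]
    (g : S) [IsLocalization.Away g T] (P : Ideal T) [P.IsPrime] : tr R P = tr R (P.under S) := by
  let I := P.under R
  have hI : (P.under S).under R = I := Ideal.under_under P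
  haveI : P.LiesOver (P.under S) := ⟨rfl⟩
  haveI : P.LiesOver I := ⟨rfl⟩
  haveI : (P.under S).LiesOver I := ⟨hI.symm⟩
  haveI : IsScalarTower (R ⧸ I) (S ⧸ P.under S) (T ⧸ P) := IsScalarTower.of_algebraMap_eq fun z => by
    obtain ⟨r, rfl⟩ := Ideal.Quotient.mk_surjective z
    exact congrArg (Ideal.Quotient.mk P) (IsScalarTower.algebraMap_apply R S T r)
  haveI : FaithfulSMul (R ⧸ I) (S ⧸ P.under S) := (faithfulSMul_iff_algebraMap_injective _ _).2 fun a b h => by
    obtain ⟨a, rfl⟩ := Ideal.Quotient.mk_surjective a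
    obtain ⟨b, rfl⟩ := Ideal.Quotient.mk_surjective b
    rw [Ideal.Quotient.eq, ← hI]
    exact show algebraMap R S (a - b) ∈ P.under S by
      rw [map_sub, ← Ideal.Quotient.eq]; exact h
  haveI : FaithfulSMul (S ⧸ P.under S) (T ⧸ P) := (faithfulSMul_iff_algebraMap_injective _ _).2 fun a b h => by
    obtain ⟨a, rfl⟩ := Ideal.Quotient.mk_surjective a
    obtain ⟨b, rfl⟩ := Ideal.Quotient.mk_surjective b
    rw [Ideal.Quotient.eq]
    exact show algebraMap S T (a - b) ∈ P by rw [map_sub, ← Ideal.Quotient.eq]; exact h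
  haveI : Algebra.IsAlgebraic (S ⧸ P.under S) (T ⧸ P) := ⟨fun z => by
    obtain ⟨t, rfl⟩ := Ideal.Quotient.mk_surjective z
    obtain ⟨n, s, hs⟩ := IsLocalization.Away.surj g t
    have hg : algebraMap S T g ∉ P := fun h =>
      (inferInstance : P.IsPrime).ne_top (Ideal.eq_top_of_isUnit_mem _ h (IsLocalization.Away.algebraMap_isUnit g))
    have hg' : Ideal.Quotient.mk (P.under S) (g ^ n) ≠ 0 := fun h => by
      rw [Ideal.Quotient.eq_zero_iff_mem] at h
      exact hg ((inferInstance : P.IsPrime).mem_of_pow_mem n (by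
        rw [← map_pow]
        exact h))
    refine ⟨Polynomial.C (Ideal.Quotient.mk (P.under S) (g ^ n)) * Polynomial.X -
      Polynomial.C (Ideal.Quotient.mk (P.under S) s), fun h => hg' ?_, ?_⟩
    · simpa [-map_pow] using congrArg (fun p => Polynomial.coeff p 1) h
    · rw [map_sub, map_mul, Polynomial.aeval_X, Polynomial.aeval_C, Polynomial.aeval_C, sub_eq_zero,
        Ideal.Quotient.algebraMap_mk_of_liesOver, Ideal.Quotient.algebraMap_mk_of_liesOver,
        ← map_mul, mul_comm, map_pow, hs]⟩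
  rw [tr_eq_trdeg P I rfl, tr_eq_trdeg (P.under S) I hI,
    ← trdeg_add_eq (R ⧸ I) (S ⧸ P.under S) (A := T ⧸ P),
    trdeg_eq_zero (R := S ⧸ P.under S) (A := T ⧸ P), add_zero]

variable [IsDomain R] (hR : ∀ (p : Ideal R) [p.IsPrime], ValuationRing (Localization.AtPrime p))
  [Algebra.FiniteType R S]

/-- A prime maximal in its fibre has algebraic residual extension. -/
theorem tr_eq_zero_of_maximal {P : Ideal S} [P.IsPrime]
    (hmax : ∀ J : Ideal S, J.IsPrime → P ≤ J → J.under R = P.under R → J = P) : tr R P = 0 := by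
  haveI : FaithfulSMul (R ⧸ P.under R) (S ⧸ P) := (faithfulSMul_iff_algebraMap_injective _ _).2
    Ideal.quotientMap_injective
  haveI : Algebra.FiniteType (R ⧸ P.under R) (S ⧸ P) :=
    Algebra.FiniteType.of_restrictScalars_finiteType R (R ⧸ P.under R) (S ⧸ P)
  have hind : AlgebraicIndependent (R ⧸ P.under R) (Fin.elim0 : Fin 0 → S ⧸ P) :=
    algebraicIndependent_empty_type_iff.2 (FaithfulSMul.algebraMap_injective _ _)
  have halg : AlgMod (R := R ⧸ P.under R) (⊥ : Ideal (S ⧸ P)) (Fin.elim0 : Fin 0 → S ⧸ P) := by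
    refine algMod_bot_of_isolated hind (fun J hJ _ hJf => ?_) fun Q' _ h _ => le_bot_iff.1 h
    have hPJ : P ≤ J.comap (Ideal.Quotient.mk P) := fun z hz => by
      rw [Ideal.mem_comap, Ideal.Quotient.eq_zero_iff_mem.2 hz]
      exact J.zero_mem
    have h := hmax _ (Ideal.IsPrime.comap _) hPJ (le_antisymm (fun r hr => ?_) (Ideal.comap_mono hPJ))
    · rw [← Ideal.map_comap_of_surjective _ Ideal.Quotient.mk_surjective J, h, Ideal.map_quotient_self]
    · have := hJf (MvPolynomial.C (Ideal.Quotient.mk (P.under R) r)) (by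
        rw [MvPolynomial.aeval_C]; exact hr)
      rw [MvPolynomial.aeval_C, Submodule.mem_bot] at this
      exact (Ideal.Quotient.eq_zero_iff_mem (I := P)).1 this
  simpa [tr] using trdeg_eq_of_algMod_bot hind halg

include hR in
theorem exists_succ {P : Ideal S} [P.IsPrime] {n : ℕ} (hn : tr R P = (n + 1 : ℕ)) :
    ∃ Q : Ideal S, Q.IsPrime ∧ P < Q ∧ Q.under R = P.under R ∧ tr R Q = n := by
  classical
  obtain ⟨J, hJp, hJ, hJu⟩ : ∃ J : Ideal S, J.IsPrime ∧ P < J ∧ J.under R = P.under R := by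
    by_contra! h
    have h0 := tr_eq_zero_of_maximal (R := R) (P := P) fun J hJ hle hu =>
      by_contra fun hne => h J hJ (lt_of_le_of_ne hle (Ne.symm hne)) hu
    rw [hn, Nat.cast_eq_zero] at h0
    omega
  let p : ℕ → Prop := fun m => ∃ Q : Ideal S, Q.IsPrime ∧ P < Q ∧ Q.under R = P.under R ∧ tr R Q = m
  have hbound : ∀ m, p m → m ≤ n := fun m ⟨Q, hQ, hlt, hu, hm⟩ => by
    haveI := hQ
    have := tr_lt_of_lt hR hlt hu.symm
    rw [hn, hm, Nat.cast_lt] at this
    omega
  haveI := hJp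
  obtain ⟨e, -, -, -, he⟩ := exists_indep_alg (R := R) J
  obtain ⟨Q, hQ, hlt, hu, hm⟩ := Nat.findGreatest_spec (P := p) (hbound e ⟨J, hJp, hJ, hJu, he⟩)
    ⟨J, hJp, hJ, hJu, he⟩
  refine ⟨Q, hQ, hlt, hu, ?_⟩
  haveI := hQ
  have hcov := tr_eq_succ_of_covBy hR hlt hu.symm fun Q' hQ' h1 h2 => by
    by_contra! hne
    haveI := hQ'
    have hu' : Q'.under R = P.under R :=
      le_antisymm ((Ideal.comap_mono h2).trans hu.le) (Ideal.comap_mono h1)
    obtain ⟨e', -, -, -, he'⟩ := exists_indep_alg (R := R) Q'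
    have hp : p e' := ⟨Q', hQ', lt_of_le_of_ne h1 hne.1.symm, hu', he'⟩
    have h3 := tr_lt_of_lt hR (lt_of_le_of_ne h2 hne.2) (hu'.trans hu.symm)
    rw [hm, he', Nat.cast_lt] at h3
    exact absurd (Nat.le_findGreatest (hbound _ hp) hp) h3.not_ge
  rw [hn, hm] at hcov
  rw [hm]
  norm_cast at hcov ⊢
  omega

/-- The primes of the fibre over `q`. -/
abbrev FibrePrimes (S : Type u) [CommRing S] [Algebra R S] (q : Ideal R) : Type u :=
  {x : PrimeSpectrum S // x.asIdeal.under R = q}

include hR in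
theorem le_coheight {q : Ideal R} : ∀ (n : ℕ) (x : FibrePrimes S q),
    tr R x.1.asIdeal = n → (n : ℕ∞) ≤ Order.coheight x
  | 0, _, _ => by simp
  | n + 1, x, hx => by
    obtain ⟨Q, hQ, hlt, hu, hQn⟩ := exists_succ hR hx
    let y : FibrePrimes S q := ⟨⟨Q, hQ⟩, hu.trans x.2⟩
    have h := le_coheight n y hQn
    calc ((n + 1 : ℕ) : ℕ∞) = (n : ℕ∞) + 1 := Nat.cast_succ n
      _ ≤ Order.coheight y + 1 := by gcongr
      _ ≤ Order.coheight x := Order.coheight_add_one_le (show x < y from hlt)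

include hR in
/-- All nonempty fibres have the dimension given by the generic transcendence degree. -/
theorem krullDim_fibrePrimes {η : Ideal S} [η.IsPrime] (hη : ∀ P : Ideal S, P.IsPrime → η ≤ P)
    (q : Ideal R) [q.IsPrime] [hne : Nonempty (FibrePrimes S q)] :
    Order.krullDim (FibrePrimes S q) = ((Cardinal.toNat (tr R η) : ℕ∞) : WithBot ℕ∞) := by
  obtain ⟨e, -, -, -, he⟩ := exists_indep_alg (R := R) η
  rw [he, Cardinal.toNat_natCast]
  apply le_antisymm
  · refine iSup_le fun s => ?_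
    let g : FibrePrimes S q → ℤ := fun x => Cardinal.toNat (tr R x.1.asIdeal)
    have hlt : ∀ a b : FibrePrimes S q, a < b → g b < g a := fun a b hab => by
      obtain ⟨m, -, -, -, hm⟩ := exists_indep_alg (R := R) a.1.asIdeal
      exact Int.ofNat_lt.2 (Cardinal.toNat_lt_toNat
        (tr_lt_of_lt hR (show a.1.asIdeal < b.1.asIdeal from hab) (a.2.trans b.2.symm))
        (hm ▸ Cardinal.natCast_lt_aleph0))
    have h1 := add_le_of_lt g hlt s
    have h2 := Cardinal.toNat_le_toNat (tr_mono hR (hη s.head.1.asIdeal s.head.1.isPrime))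
      (he ▸ Cardinal.natCast_lt_aleph0)
    rw [he, Cardinal.toNat_natCast] at h2
    have h3 : s.length ≤ e := by
      simp only [g] at h1
      omega
    exact_mod_cast h3
  · obtain ⟨x⟩ := hne
    obtain ⟨P, hP, hPx⟩ := Ideal.exists_minimalPrimes_le
      (show q.map (algebraMap R S) ≤ x.1.asIdeal from Ideal.map_le_iff_le_comap.2 x.2.ge)
    haveI := hP.1.1
    have hu : P.under R = q := le_antisymm ((Ideal.comap_mono hPx).trans x.2.le)
      (Ideal.map_le_iff_le_comap.1 hP.1.2)
    have htr := tr_eq_of_minimal hR (hη P hP.1.1) fun Q' hQ' _ h2 h3 => le_antisymm h2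
      (hP.2 ⟨hQ', Ideal.map_le_iff_le_comap.2 (h3.trans hu).ge⟩ h2)
    exact le_trans (WithBot.coe_le_coe.2 (le_coheight hR e ⟨⟨P, hP.1.1⟩, hu⟩ (htr.symm.trans he)))
      (Order.coheight_le_krullDim _)

end GrothLib.SemiPrufer
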