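import Mathlib

/-! The spectrum of a semilocal finite-dimensional Prüfer domain is finite. -/

set_option autoImplicit false

universe u

namespace GrothLib.SemiPrufer

variable {R : Type u} [CommRing R]

/-- Primes below a prime whose local ring is a valuation ring are totally ordered. -/
theorem comparable_of_le [IsDomain R] {m : Ideal R} [m.IsPrime]
    (hm : ValuationRing (Localization.AtPrime m)) {p q : Ideal R} (hp : p.IsPrime) (hq : q.IsPrime)
    (hpm : p ≤ m) (hqm : q ≤ m) : p ≤ q ∨ q ≤ p := by
  by_contra hne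
  push Not at hne
  obtain ⟨a, hap, haq⟩ := Set.not_subset.1 hne.1
  obtain ⟨b, hbq, hbp⟩ := Set.not_subset.1 hne.2
  haveI : IsDomain (Localization.AtPrime m) :=
    IsLocalization.isDomain_localization m.primeCompl_le_nonZeroDivisors
  have key : ∀ (x y : R) (r : Ideal R), r.IsPrime → r ≤ m → x ∈ r → y ∉ r →
      ¬ algebraMap R (Localization.AtPrime m) x ∣ algebraMap R (Localization.AtPrime m) y := by
    rintro x y r hr hrm hx hy ⟨c, hc⟩
    obtain ⟨⟨c', s⟩, hcs⟩ := IsLocalization.surj m.primeCompl c
    have h1 : algebraMap R (Localization.AtPrime m) (y * s) =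
        algebraMap R (Localization.AtPrime m) (x * c') := by
      rw [map_mul, map_mul, hc, mul_assoc, hcs]
    have h2 := IsLocalization.injective (Localization.AtPrime m)
      m.primeCompl_le_nonZeroDivisors h1
    rcases hr.mem_or_mem (show y * s ∈ r by rw [h2]; exact r.mul_mem_right _ hx) with h | h
    · exact hy h
    · exact s.2 (hrm h)
  rcases ValuationRing.dvd_total (algebraMap R (Localization.AtPrime m) a)
    (algebraMap R (Localization.AtPrime m) b) with h | h
  · exact key a b p hp hpm hap hbp h
  · exact key b a q hq hqm hbq haq h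

/-- A semilocal finite-dimensional Prüfer domain has only finitely many primes. -/
theorem finite_primeSpectrum [IsDomain R]
    (hR : ∀ (p : Ideal R) [p.IsPrime], ValuationRing (Localization.AtPrime p))
    (hfin : Finite (MaximalSpectrum R)) (hdim : ringKrullDim R < ⊤) :
    Finite (PrimeSpectrum R) := by
  haveI := hfin
  have hex : ∀ p : PrimeSpectrum R, ∃ m : MaximalSpectrum R, p.asIdeal ≤ m.asIdeal := fun p => by
    obtain ⟨m, hm, hle⟩ := Ideal.exists_le_maximal p.asIdeal p.isPrime.ne_top
    exact ⟨⟨m, hm⟩, hle⟩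
  choose mx hmx using hex
  obtain ⟨d, hd⟩ : ∃ d : ℕ, ∀ p : PrimeSpectrum R, p.asIdeal.height ≤ d := by
    have hlt : ∀ p : PrimeSpectrum R, (p.asIdeal.height : WithBot ℕ∞) ≤ ringKrullDim R := fun p =>
      Ideal.height_le_ringKrullDim_of_ne_top p.isPrime.ne_top
    obtain ⟨d, hd⟩ : ∃ d : ℕ, ringKrullDim R ≤ (d : WithBot ℕ∞) := by
      have h1 := hdim
      have h2 : ringKrullDim R ≠ ⊥ :=
        (lt_of_lt_of_le (WithBot.bot_lt_coe (0 : ℕ∞)) ringKrullDim_nonneg_of_nontrivial).ne'
      induction hk : ringKrullDim R with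
      | bot => exact absurd hk h2
      | coe x =>
        induction x with
        | top => rw [hk] at h1; exact absurd h1 (lt_irrefl _)
        | coe n => exact ⟨n, le_rfl⟩
    exact ⟨d, fun p => by exact_mod_cast (hlt p).trans hd⟩
  have hne : ∀ p : PrimeSpectrum R, p.asIdeal.height.toNat < d + 1 := fun p => by
    have := ENat.toNat_le_toNat (hd p) (ENat.coe_ne_top d)
    rw [ENat.toNat_coe] at this
    omega
  refine Finite.of_injective (fun p => (mx p, (⟨p.asIdeal.height.toNat, hne p⟩ : Fin (d + 1))))
    fun p q hpq => ?_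
  simp only [Prod.mk.injEq, Fin.mk.injEq] at hpq
  have hfinh : ∀ p : PrimeSpectrum R, p.asIdeal.height ≠ ⊤ := fun p =>
    ne_top_of_le_ne_top (ENat.coe_ne_top d) (hd p)
  have hheq : p.asIdeal.height = q.asIdeal.height := by
    rw [← ENat.coe_toNat (hfinh p), ← ENat.coe_toNat (hfinh q), hpq.2]
  have hstrict : ∀ a b : PrimeSpectrum R, a.asIdeal < b.asIdeal →
      a.asIdeal.height < b.asIdeal.height := fun a b hab => by
    haveI : a.asIdeal.FiniteHeight := ⟨Or.inr (hfinh a)⟩
    exact Ideal.height_strict_mono_of_isPrime hab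
  haveI := (mx p).isMaximal
  rcases comparable_of_le (hR (mx p).asIdeal) p.isPrime q.isPrime (hmx p) (hpq.1 ▸ hmx q) with h | h
  · rcases h.eq_or_lt with h | h
    · exact PrimeSpectrum.ext h
    · exact absurd hheq (hstrict p q h).ne
  · rcases h.eq_or_lt with h | h
    · exact PrimeSpectrum.ext h.symm
    · exact absurd hheq (hstrict q p h).ne'

/-- Algebras of finite type over rings with finite spectrum have noetherian spectrum. -/
theorem noetherianSpace_of_finiteType [Finite (PrimeSpectrum R)] (S : Type u) [CommRing S]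
    [Algebra R S] [Algebra.FiniteType R S] :
    TopologicalSpace.NoetherianSpace (PrimeSpectrum S) := by
  have h : ∀ p : PrimeSpectrum R,
      TopologicalSpace.NoetherianSpace (PrimeSpectrum.comap (algebraMap R S) ⁻¹' {p}) := fun p => by
    haveI : IsNoetherianRing (p.asIdeal.Fiber S) :=
      Algebra.FiniteType.isNoetherianRing p.asIdeal.ResidueField _
    exact (TopologicalSpace.noetherianSpace_iff_of_homeomorph
      (PrimeSpectrum.preimageHomeomorphFiber R S p)).2 inferInstance
  rw [← TopologicalSpace.noetherian_univ_iff]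
  have : (Set.univ : Set (PrimeSpectrum S)) =
      ⋃ p : PrimeSpectrum R, PrimeSpectrum.comap (algebraMap R S) ⁻¹' {p} :=
    (Set.eq_univ_of_forall fun x =>
      Set.mem_iUnion.2 ⟨PrimeSpectrum.comap (algebraMap R S) x, Set.mem_preimage.2 rfl⟩).symm
  rw [this]
  exact TopologicalSpace.NoetherianSpace.iUnion _

end GrothLib.SemiPrufer
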