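import Groth.Agent.Lib.SemiPrufer.TrdegFibre

/-! The dimension function `trdeg - height` for algebras of finite type over Prüfer domains. -/

set_option autoImplicit false

universe u

namespace GrothLib.SemiPrufer

variable {R : Type u} [CommRing R]

/-- Quotients of rings with valuation local rings have contents. -/
theorem content_quotient [IsDomain R] (p q : Ideal R) [p.IsPrime] [q.IsPrime] (hpq : p ≤ q)
    (hv : ValuationRing (Localization.AtPrime q)) : Content (q.map (Ideal.Quotient.mk p)) := by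
  classical
  intro s ⟨a₁, ha₁, ha₁0⟩
  haveI : IsDomain (Localization.AtPrime q) :=
    IsLocalization.isDomain_localization q.primeCompl_le_nonZeroDivisors
  choose b hb using Ideal.Quotient.mk_surjective (I := p)
  obtain ⟨k, hk, hdvd⟩ := NagataFP.exists_dvd_all s ⟨a₁, ha₁⟩
    fun a => algebraMap R (Localization.AtPrime q) (b a)
  have hclear : ∀ a, ∃ t ∉ q, ∃ c : R, a ∈ s → t * b a = c * b k := fun a => by
    by_cases ha : a ∈ s
    · obtain ⟨c, hc⟩ := hdvd a ha
      obtain ⟨⟨c', t⟩, hct⟩ := IsLocalization.surj q.primeCompl c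
      refine ⟨t, t.2, c', fun _ => IsLocalization.injective (Localization.AtPrime q)
        q.primeCompl_le_nonZeroDivisors ?_⟩
      rw [map_mul, map_mul, hc, ← hct]
      ring
    · exact ⟨1, fun h => (inferInstance : q.IsPrime).ne_top ((Ideal.eq_top_iff_one q).2 h), 0,
        fun h => absurd h ha⟩
  choose t ht c hc using hclear
  have hu : ∏ a ∈ s, t a ∉ q := fun h => by
    obtain ⟨a, -, ha⟩ := (Ideal.IsPrime.prod_mem_iff (hp := inferInstance)).1 h
    exact ht a ha
  have huq : Ideal.Quotient.mk p (∏ a ∈ s, t a) ∉ q.map (Ideal.Quotient.mk p) := by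
    rw [Ideal.mem_quotient_iff_mem hpq]
    exact hu
  have key : ∀ a ∈ s, ∃ d : R ⧸ p, Ideal.Quotient.mk p (∏ a ∈ s, t a) * a = d * k := fun a ha => by
    refine ⟨Ideal.Quotient.mk p ((∏ i ∈ s.erase a, t i) * c a), ?_⟩
    conv_lhs => rw [← hb a]
    conv_rhs => rw [← hb k]
    rw [← map_mul, ← map_mul]
    congr 1
    rw [← Finset.mul_prod_erase s t ha]
    linear_combination (∏ i ∈ s.erase a, t i) * hc a ha
  refine ⟨_, huq, k, hk, fun hk0 => ha₁0 ?_, key⟩
  obtain ⟨d, hd⟩ := key a₁ ha₁
  rw [hk0, mul_zero] at hd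
  exact (mul_eq_zero.1 hd).resolve_left fun h0 => huq (h0 ▸ Ideal.zero_mem _)

/-- A polynomial ring over a domain has contents at the prime of the variable. -/
theorem content_polynomial [IsDomain R] :
    Content (RingHom.ker (Polynomial.constantCoeff : Polynomial R →+* R)) := by
  classical
  intro s ⟨f₁, hf₁, hf₁0⟩
  obtain ⟨f₀, hf₀, hmin⟩ := Finset.exists_min_image (s.filter (· ≠ 0))
    Polynomial.natTrailingDegree ⟨f₁, Finset.mem_filter.2 ⟨hf₁, hf₁0⟩⟩
  rw [Finset.mem_filter] at hf₀
  have hX : ∀ f ∈ s, Polynomial.X ^ f₀.natTrailingDegree ∣ f := fun f hf => by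
    by_cases h0 : f = 0
    · exact h0 ▸ dvd_zero _
    · exact Polynomial.X_pow_dvd_iff.2 fun d hd => Polynomial.coeff_eq_zero_of_lt_natTrailingDegree
        (lt_of_lt_of_le hd (hmin f (Finset.mem_filter.2 ⟨hf, h0⟩)))
  obtain ⟨g₀, hg₀⟩ := hX f₀ hf₀.1
  refine ⟨g₀, fun h => ?_, f₀, hf₀.1, hf₀.2, fun f hf => ?_⟩
  · refine Polynomial.trailingCoeff_nonzero_iff_nonzero.2 hf₀.2 ?_
    have : f₀.coeff f₀.natTrailingDegree = g₀.coeff 0 := by
      conv_lhs => arg 1; rw [hg₀]
      simpa using Polynomial.coeff_X_pow_mul g₀ f₀.natTrailingDegree 0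
    rw [Polynomial.trailingCoeff, this]
    exact h
  · obtain ⟨g, hg⟩ := hX f hf
    refine ⟨g, ?_⟩
    conv_lhs => rw [hg]
    conv_rhs => rw [hg₀]
    ring

variable {S : Type u} [CommRing S] [Algebra R S]

/-- The residual transcendence degree. -/
noncomputable def tr (R : Type u) [CommRing R] {S : Type u} [CommRing S] [Algebra R S]
    (P : Ideal S) : Cardinal.{u} :=
  Algebra.trdeg (R ⧸ P.under R) (S ⧸ P)

theorem mk_aeval {P : Ideal S} {ι : Type*} (x : ι → S) (f : MvPolynomial ι R) :
    Ideal.Quotient.mk P (MvPolynomial.aeval x f) =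
      MvPolynomial.aeval (fun i => Ideal.Quotient.mk P (x i))
        (MvPolynomial.map (Ideal.Quotient.mk (P.under R)) f) := by
  induction f using MvPolynomial.induction_on with
  | C a =>
    rw [MvPolynomial.map_C, MvPolynomial.aeval_C, MvPolynomial.aeval_C]
    rfl
  | add f g hf hg => simp only [map_add, hf, hg]
  | mul_X f i hf => simp only [map_mul, MvPolynomial.aeval_X, MvPolynomial.map_X, hf]

theorem under_map_quotient {P Q : Ideal S} (h : P ≤ Q) :
    (Q.map (Ideal.Quotient.mk P)).under (R ⧸ P.under R) =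
      (Q.under R).map (Ideal.Quotient.mk (P.under R)) := by
  ext z
  obtain ⟨a, rfl⟩ := Ideal.Quotient.mk_surjective z
  rw [Ideal.mem_quotient_iff_mem (Ideal.comap_mono h)]
  change Ideal.Quotient.mk P (algebraMap R S a) ∈ Q.map (Ideal.Quotient.mk P) ↔ _
  rw [Ideal.mem_quotient_iff_mem h]
  rfl

theorem IndepMod.quotient {P Q : Ideal S} (h : P ≤ Q) {ι : Type*} {x : ι → S}
    (hx : IndepMod (R := R) Q x) :
    IndepMod (R := R ⧸ P.under R) (Q.map (Ideal.Quotient.mk P))
      (fun i => Ideal.Quotient.mk P (x i)) := by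
  intro f hf s
  obtain ⟨f, rfl⟩ := MvPolynomial.map_surjective (Ideal.Quotient.mk (P.under R))
    Ideal.Quotient.mk_surjective f
  rw [← mk_aeval, Ideal.mem_quotient_iff_mem h] at hf
  rw [MvPolynomial.coeff_map, under_map_quotient h]
  exact Ideal.mem_map_of_mem _ (hx f hf s)

theorem AlgMod.quotient {P Q : Ideal S} (h : P ≤ Q) {ι : Type*} {x : ι → S}
    (hx : AlgMod (R := R) Q x) :
    AlgMod (R := R ⧸ P.under R) (Q.map (Ideal.Quotient.mk P))
      (fun i => Ideal.Quotient.mk P (x i)) := by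
  intro y
  obtain ⟨y, rfl⟩ := Ideal.Quotient.mk_surjective y
  obtain ⟨g, ⟨i, hi⟩, hgy⟩ := hx y
  refine ⟨g.map (MvPolynomial.map (Ideal.Quotient.mk (P.under R))), ⟨i, ?_⟩, ?_⟩
  · rw [Polynomial.coeff_map, ← mk_aeval, Ideal.mem_quotient_iff_mem h]
    exact hi
  · rw [← Ideal.mem_quotient_iff_mem h, Polynomial.hom_eval₂] at hgy
    rw [Polynomial.eval₂_map]
    have hcomp : (MvPolynomial.aeval (R := R ⧸ P.under R) fun i => Ideal.Quotient.mk P (x i)).toRingHom.comp
        (MvPolynomial.map (Ideal.Quotient.mk (P.under R))) =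
        (Ideal.Quotient.mk P).comp (MvPolynomial.aeval (R := R) x).toRingHom :=
      RingHom.ext fun f => (mk_aeval x f).symm
    rw [hcomp]
    exact hgy

theorem exists_indep_alg [Algebra.FiniteType R S] (P : Ideal S) [P.IsPrime] :
    ∃ (e : ℕ) (x : Fin e → S), IndepMod (R := R) P x ∧ AlgMod (R := R) P x ∧ tr R P = e := by
  classical
  let k₀ := R ⧸ P.under R
  haveI : FaithfulSMul k₀ (S ⧸ P) := (faithfulSMul_iff_algebraMap_injective _ _).2
    Ideal.quotientMap_injective
  haveI : Algebra.FiniteType k₀ (S ⧸ P) :=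
    Algebra.FiniteType.of_restrictScalars_finiteType R k₀ (S ⧸ P)
  obtain ⟨ι, x', hx'⟩ := exists_isTranscendenceBasis' k₀ (S ⧸ P)
  haveI : Finite ι := Cardinal.lt_aleph0_iff_finite.1
    (hx'.cardinalMk_eq_trdeg ▸ trdeg_lt_aleph0_of_finiteType)
  obtain ⟨e, ⟨eq⟩⟩ := Finite.exists_equiv_fin ι
  choose l hl using Ideal.Quotient.mk_surjective (I := P)
  have hb := hx'.comp_equiv eq.symm
  refine ⟨e, fun i => l (x' (eq.symm i)), ?_, ?_, ?_⟩
  · intro f hf s
    have h0 := (hb.1.eq_zero_of_aeval_eq_zero (MvPolynomial.map (Ideal.Quotient.mk (P.under R)) f) (by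
      rw [← Ideal.Quotient.eq_zero_iff_mem, mk_aeval] at hf
      simpa only [hl, Function.comp_def] using hf))
    have := congrArg (MvPolynomial.coeff s) h0
    rwa [MvPolynomial.coeff_map, MvPolynomial.coeff_zero, Ideal.Quotient.eq_zero_iff_mem] at this
  · intro y
    haveI := hb.isAlgebraic
    obtain ⟨g, hg, hgy⟩ := Algebra.IsAlgebraic.isAlgebraic
      (R := Algebra.adjoin k₀ (Set.range (x' ∘ eq.symm))) (Ideal.Quotient.mk P y)
    have hlift : ∀ a : Algebra.adjoin k₀ (Set.range (x' ∘ eq.symm)),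
        ∃ f : MvPolynomial (Fin e) R, Ideal.Quotient.mk P
          (MvPolynomial.aeval (fun i => l (x' (eq.symm i))) f) = (a : S ⧸ P) := fun a => by
      obtain ⟨f, hf⟩ := (Algebra.adjoin_range_eq_range_aeval k₀ (x' ∘ eq.symm)).le a.2
      obtain ⟨f, rfl⟩ := MvPolynomial.map_surjective (Ideal.Quotient.mk (P.under R))
        Ideal.Quotient.mk_surjective f
      exact ⟨f, by rw [mk_aeval]; simpa only [hl, Function.comp_def, AlgHom.toRingHom_eq_coe, RingHom.coe_coe] using hf⟩
    choose φ hφ using hlift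
    let G : Polynomial (MvPolynomial (Fin e) R) :=
      ∑ i ∈ g.support, Polynomial.monomial i (φ (g.coeff i))
    have hG : ∀ i, Ideal.Quotient.mk P
        (MvPolynomial.aeval (fun i => l (x' (eq.symm i))) (G.coeff i)) = (g.coeff i : S ⧸ P) := by
      intro i
      simp only [G, Polynomial.finsetSum_coeff, Polynomial.coeff_monomial, Finset.sum_ite_eq']
      split_ifs with hi
      · exact hφ _
      · rw [Polynomial.notMem_support_iff.1 hi]
        simp
    obtain ⟨i, hi⟩ := Polynomial.support_nonempty.2 hg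
    refine ⟨G, ⟨i, fun h => ?_⟩, ?_⟩
    · have h' := hG i
      rw [Ideal.Quotient.eq_zero_iff_mem.2 h] at h'
      exact Polynomial.mem_support_iff.1 hi (Subtype.ext h'.symm)
    · rw [← Ideal.Quotient.eq_zero_iff_mem, Polynomial.hom_eval₂]
      rw [Polynomial.aeval_def] at hgy
      have hmap : G.map ((Ideal.Quotient.mk P).comp
          (MvPolynomial.aeval (R := R) fun i => l (x' (eq.symm i))).toRingHom) =
          g.map (algebraMap _ (S ⧸ P)) := Polynomial.ext fun i => by
        rw [Polynomial.coeff_map, Polynomial.coeff_map]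
        exact hG i
      rw [← Polynomial.eval_map, hmap, Polynomial.eval_map, hgy]
  · rw [tr, ← hx'.cardinalMk_eq_trdeg, Cardinal.mk_congr (eq.trans Equiv.ulift.symm)]
    simp

variable [IsDomain R] (hR : ∀ (p : Ideal R) [p.IsPrime], ValuationRing (Localization.AtPrime p))
  [Algebra.FiniteType R S]

section Pair

variable {P Q : Ideal S} [P.IsPrime] [Q.IsPrime]

include hR in
theorem indep_bot (h : P ≤ Q) {ι : Type*} {x : ι → S} (hx : IndepMod (R := R) Q x) :
    AlgebraicIndependent (R ⧸ P.under R) fun i => Ideal.Quotient.mk P (x i) := by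
  haveI : FaithfulSMul (R ⧸ P.under R) (S ⧸ P) := (faithfulSMul_iff_algebraMap_injective _ _).2
    Ideal.quotientMap_injective
  haveI : (Q.map (Ideal.Quotient.mk P)).IsPrime :=
    Ideal.isPrime_map_quotientMk_of_isPrime h
  refine algebraicIndependent_of_indepMod ?_ (hx.quotient h)
  rw [under_map_quotient h]
  exact content_quotient _ _ (Ideal.comap_mono h) (hR _)

include hR in
theorem tr_mono (h : P ≤ Q) : tr R Q ≤ tr R P := by
  obtain ⟨e, x, hx, -, he⟩ := exists_indep_alg (R := R) Q
  have := (indep_bot hR h hx).lift_cardinalMk_le_trdeg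
  simp only [Cardinal.mk_fin, Cardinal.lift_natCast] at this
  rw [he]
  rw [tr]
  simpa using this

include hR in
theorem tr_eq_of_minimal (h : P ≤ Q)
    (hmin : ∀ Q' : Ideal S, Q'.IsPrime → P ≤ Q' → Q' ≤ Q → Q'.under R = Q.under R → Q' = Q) :
    tr R P = tr R Q := by
  obtain ⟨e, x, hx, ha, he⟩ := exists_indep_alg (R := R) Q
  rw [he]
  haveI : FaithfulSMul (R ⧸ P.under R) (S ⧸ P) := (faithfulSMul_iff_algebraMap_injective _ _).2
    Ideal.quotientMap_injective
  haveI : Algebra.FiniteType (R ⧸ P.under R) (S ⧸ P) :=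
    Algebra.FiniteType.of_restrictScalars_finiteType R (R ⧸ P.under R) (S ⧸ P)
  haveI : (Q.map (Ideal.Quotient.mk P)).IsPrime :=
    Ideal.isPrime_map_quotientMk_of_isPrime h
  have hind := indep_bot hR h hx
  refine trdeg_eq_of_algMod_bot hind (algMod_bot_of_minimal hind (ha.quotient h)
    fun Q' hQ' hle hu => ?_)
  have hPQ' : P ≤ Q'.comap (Ideal.Quotient.mk P) := fun z hz => by
    rw [Ideal.mem_comap, Ideal.Quotient.eq_zero_iff_mem.2 hz]
    exact Q'.zero_mem
  have heq := hmin _ (Ideal.IsPrime.comap _) hPQ' (fun z hz => (Ideal.mem_quotient_iff_mem h).1 (hle hz)) ?_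
  · rw [← Ideal.map_comap_of_surjective _ Ideal.Quotient.mk_surjective Q', heq]
  · ext a
    have h1 : Ideal.Quotient.mk (P.under R) a ∈ Q'.under (R ⧸ P.under R) ↔
        Ideal.Quotient.mk (P.under R) a ∈ (Q.map (Ideal.Quotient.mk P)).under (R ⧸ P.under R) := by
      rw [hu]
    rw [under_map_quotient h, Ideal.mem_quotient_iff_mem (Ideal.comap_mono h)] at h1
    exact h1

include hR in
theorem tr_lt_of_lt (h : P < Q) (hu : P.under R = Q.under R) : tr R Q < tr R P := by
  obtain ⟨e, x, hx, -, he⟩ := exists_indep_alg (R := R) Q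
  rw [he, tr]
  let k₀ := R ⧸ P.under R
  let D := S ⧸ P
  haveI : FaithfulSMul k₀ D := (faithfulSMul_iff_algebraMap_injective _ _).2
    Ideal.quotientMap_injective
  have hind := indep_bot hR h.le hx
  let T := MvPolynomial (Fin e) k₀
  letI : Algebra T D := (MvPolynomial.aeval (R := k₀) fun i => Ideal.Quotient.mk P (x i)).toRingHom.toAlgebra
  haveI : IsScalarTower k₀ T D := IsScalarTower.of_algebraMap_eq fun r =>
    ((MvPolynomial.aeval (R := k₀) fun i => Ideal.Quotient.mk P (x i)).commutes r).symm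
  haveI : FaithfulSMul T D := (faithfulSMul_iff_algebraMap_injective T D).2 hind
  obtain ⟨y, hyQ, hyP⟩ := Set.exists_of_ssubset (SetLike.coe_ssubset_coe.2 h)
  have hy : Transcendental T (Ideal.Quotient.mk P y) := fun halg => by
    obtain ⟨t, ht, z, hz⟩ := halg.exists_nonzero_dvd (mem_nonZeroDivisors_of_ne_zero
      (mt Ideal.Quotient.eq_zero_iff_mem.1 hyP))
    refine ht (MvPolynomial.ext _ _ fun s => ?_)
    have := hx.quotient h.le t (by
      change algebraMap T D t ∈ _
      rw [hz]
      exact Ideal.mul_mem_right _ _ (Ideal.mem_map_of_mem _ hyQ)) s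
    rw [under_map_quotient h.le, ← hu, Ideal.map_quotient_self, Ideal.mem_bot] at this
    simpa using this
  haveI : Algebra.Transcendental T D := ⟨⟨_, hy⟩⟩
  rw [← trdeg_add_eq k₀ T (A := D), MvPolynomial.trdeg_of_isDomain]
  have h1 : 1 ≤ Algebra.trdeg T D :=
    Cardinal.one_le_iff_pos.2 (trdeg_pos (R := T) (A := D))
  calc (e : Cardinal) < (e : Cardinal) + 1 := by
        exact_mod_cast Nat.lt_succ_self e
    _ ≤ _ := add_le_add (by simp) h1

include hR in
theorem tr_eq_succ_of_covBy (h : P < Q) (hu : P.under R = Q.under R)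
    (hcov : ∀ Q' : Ideal S, Q'.IsPrime → P ≤ Q' → Q' ≤ Q → Q' = P ∨ Q' = Q) :
    tr R P = tr R Q + 1 := by
  obtain ⟨e, x, hx, ha, he⟩ := exists_indep_alg (R := R) Q
  rw [he, tr]
  let k₀ := R ⧸ P.under R
  let D := S ⧸ P
  haveI : FaithfulSMul k₀ D := (faithfulSMul_iff_algebraMap_injective _ _).2
    Ideal.quotientMap_injective
  haveI : Algebra.FiniteType k₀ D := Algebra.FiniteType.of_restrictScalars_finiteType R k₀ D
  let Q' := Q.map (Ideal.Quotient.mk P)
  haveI hQ'p : Q'.IsPrime := Ideal.isPrime_map_quotientMk_of_isPrime h.le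
  have hQ'0 : Q'.under k₀ = ⊥ := by rw [under_map_quotient h.le, ← hu, Ideal.map_quotient_self]
  obtain ⟨y₀, hyQ, hyP⟩ := Set.exists_of_ssubset (SetLike.coe_ssubset_coe.2 h)
  let y : D := Ideal.Quotient.mk P y₀
  have hy0 : y ≠ 0 := mt Ideal.Quotient.eq_zero_iff_mem.1 hyP
  have hyQ' : y ∈ Q' := Ideal.mem_map_of_mem _ hyQ
  let A := Polynomial k₀
  letI : Algebra A D := (Polynomial.aeval (R := k₀) y).toRingHom.toAlgebra
  haveI : IsScalarTower k₀ A D :=
    IsScalarTower.of_algebraMap_eq fun r => ((Polynomial.aeval (R := k₀) y).commutes r).symm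
  haveI : Algebra.FiniteType A D := Algebra.FiniteType.of_restrictScalars_finiteType k₀ A D
  have hyt : Transcendental k₀ y := fun halg => by
    obtain ⟨t, ht, z, hz⟩ := halg.exists_nonzero_dvd (mem_nonZeroDivisors_of_ne_zero hy0)
    refine ht ((Submodule.mem_bot k₀).1 (hQ'0 ▸ ?_))
    change algebraMap k₀ D t ∈ Q'
    rw [hz]
    exact Q'.mul_mem_right _ hyQ'
  haveI : FaithfulSMul A D := (faithfulSMul_iff_algebraMap_injective A D).2
    (transcendental_iff_injective.1 hyt)
  have hker : Q'.under A = RingHom.ker (Polynomial.constantCoeff : A →+* k₀) := by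
    ext f
    change Polynomial.aeval y f ∈ Q' ↔ f.coeff 0 = 0
    rw [← Submodule.mem_bot k₀ (x := f.coeff 0), ← hQ'0]
    conv_lhs => rw [← f.X_mul_divX_add, map_add, map_mul, Polynomial.aeval_X, Polynomial.aeval_C]
    exact Submodule.add_mem_iff_right Q' (Q'.mul_mem_right _ hyQ')
  let x' : Fin e → D := fun i => Ideal.Quotient.mk P (x i)
  have hxA : IndepMod (R := A) Q' x' := by
    intro f hf s
    have key : ∀ f : MvPolynomial (Fin e) A, MvPolynomial.aeval x' f -
        MvPolynomial.aeval x' (MvPolynomial.map (Polynomial.constantCoeff) f) ∈ Q' := by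
      intro f
      induction f using MvPolynomial.induction_on with
      | C a =>
        rw [MvPolynomial.map_C, MvPolynomial.aeval_C, MvPolynomial.aeval_C]
        change Polynomial.aeval y a - algebraMap k₀ D (a.coeff 0) ∈ Q'
        conv => enter [2, 1]; rw [← a.X_mul_divX_add]
        rw [map_add, map_mul, Polynomial.aeval_X, Polynomial.aeval_C, add_sub_cancel_right]
        exact Q'.mul_mem_right _ hyQ'
      | add f g hf hg => simpa [map_add, add_sub_add_comm] using Q'.add_mem hf hg
      | mul_X f i hf => simpa [← sub_mul] using Q'.mul_mem_right (x' i) hf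
    have h2 : MvPolynomial.aeval x' (MvPolynomial.map (Polynomial.constantCoeff) f) ∈ Q' := by
      simpa using Q'.sub_mem hf (key f)
    have h3 := hx.quotient h.le _ h2 s
    rw [MvPolynomial.coeff_map, hQ'0, Submodule.mem_bot] at h3
    rw [hker]
    exact h3
  have haA : AlgMod (R := A) Q' x' := by
    intro z
    obtain ⟨g, ⟨i, hi⟩, hgz⟩ := ha.quotient h.le z
    have hC : ∀ f : MvPolynomial (Fin e) k₀,
        MvPolynomial.aeval x' (MvPolynomial.map (Polynomial.C : k₀ →+* A) f) =
          MvPolynomial.aeval x' f := fun f => by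
      induction f using MvPolynomial.induction_on with
      | C a =>
        rw [MvPolynomial.map_C, MvPolynomial.aeval_C, MvPolynomial.aeval_C]
        exact Polynomial.aeval_C y a
      | add f g hf hg => simp only [map_add, hf, hg]
      | mul_X f i hf => simp only [map_mul, MvPolynomial.aeval_X, MvPolynomial.map_X, hf]
    refine ⟨g.map (MvPolynomial.map Polynomial.C), ⟨i, by rwa [Polynomial.coeff_map, hC]⟩, ?_⟩
    rw [Polynomial.eval₂_map]
    convert hgz using 2
    exact RingHom.ext hC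
  have hind : AlgebraicIndependent A x' :=
    algebraicIndependent_of_indepMod (hker ▸ content_polynomial) hxA
  have halg := algMod_bot_of_minimal hind haA fun Q'' hQ'' hle hu' => by
    have hyQ'' : y ∈ Q'' := by
      have : (Polynomial.X : A) ∈ Q''.under A := by
        rw [hu', hker]
        exact Polynomial.coeff_X_zero
      change Polynomial.aeval y Polynomial.X ∈ Q'' at this
      rwa [Polynomial.aeval_X] at this
    have hle' : Q''.comap (Ideal.Quotient.mk P) ≤ Q := fun z hz =>
      (Ideal.mem_quotient_iff_mem h.le).1 (hle hz)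
    rcases hcov _ (Ideal.IsPrime.comap (Ideal.Quotient.mk P))
      (fun z hz => by
        rw [Ideal.mem_comap, Ideal.Quotient.eq_zero_iff_mem.2 hz]; exact Q''.zero_mem) hle' with h' | h'
    · exact absurd (h' ▸ (Ideal.mem_comap.2 hyQ'' : y₀ ∈ Q''.comap (Ideal.Quotient.mk P))) hyP
    · rw [← Ideal.map_comap_of_surjective _ Ideal.Quotient.mk_surjective Q'', h']
  rw [← trdeg_add_eq k₀ A (A := D), Polynomial.trdeg_of_isDomain,
    trdeg_eq_of_algMod_bot hind halg, add_comm]

include hR in
/-- Going down between the fibres. -/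
theorem exists_between (h : P ≤ Q) {q : Ideal R} [q.IsPrime] (hP : P.under R ≤ q)
    (hQ : q ≤ Q.under R) : ∃ Q' : Ideal S, Q'.IsPrime ∧ P ≤ Q' ∧ Q' ≤ Q ∧ Q'.under R = q := by
  classical
  haveI : IsDomain (R ⧸ P.under R) := inferInstance
  let M : Submonoid S := (q.primeCompl.map (algebraMap R S)) ⊔ Q.primeCompl
  let I : Ideal S := P ⊔ q.map (algebraMap R S)
  have hdisj : Disjoint (I : Set S) M := by
    rw [Set.disjoint_left]
    intro z hzI hzM
    obtain ⟨_, ⟨a, ha, rfl⟩, t, ht, rfl⟩ := Submonoid.mem_sup.1 hzM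
    obtain ⟨z₁, hz₁, z₂, hz₂, hz⟩ := Submodule.mem_sup.1 hzI
    rw [Ideal.map, ← Set.image_id (algebraMap R S '' (q : Set R))] at hz₂
    obtain ⟨l, hl, hsum⟩ := (Finsupp.mem_span_image_iff_linearCombination S).1 hz₂
    choose! b hb hbeq using fun w (hw : w ∈ l.support) => hl hw
    -- contents in the local ring at `Q ∩ R`
    let Qr := (Q.under R).map (Ideal.Quotient.mk (P.under R))
    haveI : FaithfulSMul (R ⧸ P.under R) (S ⧸ P) := (faithfulSMul_iff_algebraMap_injective _ _).2
      Ideal.quotientMap_injective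
    have hbar : ∀ c, Ideal.Quotient.mk (P.under R) c ∈ Qr ↔ c ∈ Q.under R := fun c =>
      Ideal.mem_quotient_iff_mem (Ideal.comap_mono h)
    have hq : ∀ c, Ideal.Quotient.mk (P.under R) c ∈ q.map (Ideal.Quotient.mk (P.under R)) ↔ c ∈ q :=
      fun c => Ideal.mem_quotient_iff_mem hP
    haveI : (q.map (Ideal.Quotient.mk (P.under R))).IsPrime :=
      Ideal.isPrime_map_quotientMk_of_isPrime hP
    let a' := Ideal.Quotient.mk (P.under R) a
    have ha0 : a' ≠ 0 := fun h0 => ha ((hq a).1 (by
      change a' ∈ _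
      rw [h0]
      exact Ideal.zero_mem _))
    obtain ⟨u, hu, a₀, ha₀, -, hdiv⟩ := content_quotient (P.under R) (Q.under R) (Ideal.comap_mono h)
      (hR _) (insert a' (l.support.image fun w => Ideal.Quotient.mk (P.under R) (b w)))
      ⟨a', Finset.mem_insert_self _ _, ha0⟩
    have hu0 : u ∉ q.map (Ideal.Quotient.mk (P.under R)) :=
      fun h' => hu (Ideal.map_mono hQ h')
    -- the distinguished coefficient can be taken to be `a`
    obtain ⟨v, hv, hdiv'⟩ : ∃ v ∉ Qr, ∀ w ∈ l.support, ∃ c ∈ q.map (Ideal.Quotient.mk (P.under R)),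
        v * Ideal.Quotient.mk (P.under R) (b w) = c * a' := by
      rcases Finset.mem_insert.1 ha₀ with rfl | hmem
      · refine ⟨u, hu, fun w hw => ?_⟩
        obtain ⟨c, hc⟩ := hdiv _ (Finset.mem_insert_of_mem (Finset.mem_image_of_mem _ hw))
        refine ⟨c, ?_, hc⟩
        have : c * a' ∈ q.map (Ideal.Quotient.mk (P.under R)) :=
          hc ▸ Ideal.mul_mem_left _ _ ((hq _).2 (hb w hw))
        exact ((inferInstance : (q.map (Ideal.Quotient.mk (P.under R))).IsPrime).mem_or_mem
          this).resolve_right fun h' => ha ((hq a).1 h')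
      · obtain ⟨w₀, hw₀, rfl⟩ := Finset.mem_image.1 hmem
        obtain ⟨c, hc⟩ := hdiv a' (Finset.mem_insert_self _ _)
        have : u * a' ∈ q.map (Ideal.Quotient.mk (P.under R)) :=
          hc ▸ Ideal.mul_mem_left _ _ ((hq _).2 (hb w₀ hw₀))
        exact absurd (((inferInstance : (q.map (Ideal.Quotient.mk (P.under R))).IsPrime).mem_or_mem
          this).resolve_left hu0) fun h' => ha ((hq a).1 h')
    choose! c hcq hceq using hdiv'
    let π := Ideal.Quotient.mk P
    let j := algebraMap (R ⧸ P.under R) (S ⧸ P)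
    have hmain : j a' * (j v * π t - ∑ w ∈ l.support, π (l w) * j (c w)) = 0 := by
      have e1 : j a' * π t = ∑ w ∈ l.support, π (l w) * j (Ideal.Quotient.mk _ (b w)) := by
        have : π (algebraMap R S a * t) = π (∑ w ∈ l.support, l w * w) := by
          rw [← hz, map_add, Ideal.Quotient.eq_zero_iff_mem.2 hz₁, zero_add, ← hsum,
            Finsupp.linearCombination_apply, Finsupp.sum]
          simp
        rw [map_mul, map_sum] at this
        refine this.trans (Finset.sum_congr rfl fun w hw => ?_)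
        rw [map_mul]
        congr 1
        conv_lhs => rw [← hbeq w hw]
        rfl
      rw [mul_sub, ← mul_assoc, mul_comm (j a') (j v), mul_assoc, e1, Finset.mul_sum,
        Finset.mul_sum, ← Finset.sum_sub_distrib]
      refine Finset.sum_eq_zero fun w hw => ?_
      rw [mul_left_comm, ← map_mul j, hceq w hw, map_mul]
      ring
    rw [mul_eq_zero, or_iff_right ((map_ne_zero_iff _
      (FaithfulSMul.algebraMap_injective (R ⧸ P.under R) (S ⧸ P))).2 ha0), sub_eq_zero] at hmain
    obtain ⟨v, rfl⟩ := Ideal.Quotient.mk_surjective v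
    have hmem : j (Ideal.Quotient.mk _ v) * π t ∈ Q.map π := by
      rw [hmain]
      refine Ideal.sum_mem _ fun w hw => Ideal.mul_mem_left _ _ ?_
      obtain ⟨c', hc'⟩ := Ideal.Quotient.mk_surjective (c w)
      rw [← hc']
      exact Ideal.mem_map_of_mem _ (hQ ((hq c').1 (hc' ▸ hcq w hw)))
    have : π (algebraMap R S v * t) ∈ Q.map π := by rw [map_mul]; exact hmem
    rw [Ideal.mem_quotient_iff_mem h] at this
    exact ((‹Q.IsPrime›.mem_or_mem this).elim (fun h' => hv ((hbar v).2 h')) ht)
  obtain ⟨Q', hQ', hIQ', hd⟩ := Ideal.exists_le_prime_disjoint I M hdisj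
  refine ⟨Q', hQ', le_sup_left.trans hIQ', fun z hz => ?_, ?_⟩
  · by_contra hzQ
    exact Set.disjoint_left.1 hd hz ((le_sup_right : Q.primeCompl ≤ M) hzQ)
  · refine le_antisymm (fun a ha => ?_) fun a ha => hIQ' (Submodule.mem_sup_right (Ideal.mem_map_of_mem _ ha))
    by_contra haq
    exact Set.disjoint_left.1 hd ha
      ((le_sup_left : q.primeCompl.map (algebraMap R S) ≤ M) ⟨a, haq, rfl⟩)

end Pair

end GrothLib.SemiPrufer
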