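import Mathlib
import Groth.Agent.Lib.SemiPrufer.Spec
import Groth.Agent.Lib.NagataFP.Basic

/-! Transcendence degrees along the fibres of algebras of finite type over Prüfer rings. -/

set_option autoImplicit false

universe u v

namespace GrothLib.SemiPrufer

variable {R : Type u} {S : Type v} [CommRing R] [CommRing S] [Algebra R S]

/-- Finite families not all zero have a content at `q`. -/
def Content (q : Ideal R) : Prop :=
  ∀ (s : Finset R), (∃ a ∈ s, a ≠ 0) →
    ∃ u ∉ q, ∃ a₀ ∈ s, a₀ ≠ 0 ∧ ∀ a ∈ s, ∃ c, u * a = c * a₀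

/-- Algebraic independence modulo `Q`. -/
def IndepMod (Q : Ideal S) {ι : Type*} (x : ι → S) : Prop :=
  ∀ f : MvPolynomial ι R, MvPolynomial.aeval x f ∈ Q → ∀ s, f.coeff s ∈ Q.under R

/-- Every element is algebraic modulo `Q` over the subalgebra generated by `x`. -/
def AlgMod (Q : Ideal S) {ι : Type*} (x : ι → S) : Prop :=
  ∀ y : S, ∃ g : Polynomial (MvPolynomial ι R),
    (∃ i, MvPolynomial.aeval x (g.coeff i) ∉ Q) ∧
      Polynomial.eval₂ (MvPolynomial.aeval (R := R) x).toRingHom y g ∈ Q

theorem AlgMod.exists_notMem_sup {Q : Ideal S} [Q.IsPrime] {ι : Type*} {x : ι → S}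
    (h : AlgMod (R := R) Q x) {y : S} (hy : y ∉ Q) :
    ∃ f : MvPolynomial ι R, MvPolynomial.aeval x f ∉ Q ∧
      ∀ J : Ideal S, Q ≤ J → y ∈ J → MvPolynomial.aeval x f ∈ J := by
  classical
  obtain ⟨g, hi, hgy⟩ := h y
  have key : ∀ (n : ℕ) (g : Polynomial (MvPolynomial ι R)), g.natDegree ≤ n →
      (∃ i, MvPolynomial.aeval x (g.coeff i) ∉ Q) →
      Polynomial.eval₂ (MvPolynomial.aeval (R := R) x).toRingHom y g ∈ Q →
      ∃ f : MvPolynomial ι R, MvPolynomial.aeval x f ∉ Q ∧
        ∀ J : Ideal S, Q ≤ J → y ∈ J → MvPolynomial.aeval x f ∈ J := by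
    intro n
    induction n with
    | zero =>
      intro g hd ⟨i, hi⟩ he
      rw [Polynomial.eq_C_of_natDegree_eq_zero (Nat.le_zero.1 hd)] at hi he
      rw [Polynomial.eval₂_C] at he
      rcases i with _ | i
      · rw [Polynomial.coeff_C_zero] at hi
        exact absurd he hi
      · rw [Polynomial.coeff_C, if_neg (Nat.succ_ne_zero i), map_zero] at hi
        exact absurd Q.zero_mem hi
    | succ n ih =>
      intro g hd ⟨i, hi⟩ he
      have hsplit := g.X_mul_divX_add
      rw [← hsplit, Polynomial.eval₂_add, Polynomial.eval₂_mul, Polynomial.eval₂_X,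
        Polynomial.eval₂_C] at he
      by_cases h0 : MvPolynomial.aeval x (g.coeff 0) ∈ Q
      · have hi0 : i ≠ 0 := by
          rintro rfl
          exact hi h0
        have hmem : y * Polynomial.eval₂ (MvPolynomial.aeval (R := R) x).toRingHom y g.divX ∈ Q := by
          simpa using Q.sub_mem he h0
        refine ih g.divX (by rw [Polynomial.natDegree_divX_eq_natDegree_tsub_one]; omega)
          ⟨i - 1, ?_⟩ ((‹Q.IsPrime›.mem_or_mem hmem).resolve_left hy)
        rw [Polynomial.coeff_divX, Nat.sub_add_cancel (Nat.pos_of_ne_zero hi0)]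
        exact hi
      · refine ⟨g.coeff 0, h0, fun J hJ hyJ => ?_⟩
        exact (Submodule.add_mem_iff_right J (J.mul_mem_right _ hyJ)).1 (hJ he)
  exact key _ g le_rfl hi hgy

/-- Over a prime with content, lifts of an independent family are independent. -/
theorem algebraicIndependent_of_indepMod [IsDomain S] [FaithfulSMul R S] {Q : Ideal S}
    [Q.IsPrime] (hc : Content (Q.under R)) {ι : Type*} {x : ι → S}
    (h : IndepMod (R := R) Q x) : AlgebraicIndependent R x := by
  classical
  rw [algebraicIndependent_iff]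
  intro f hf
  by_contra hne
  obtain ⟨s, hs⟩ := MvPolynomial.ne_zero_iff.1 hne
  obtain ⟨u, hu, a₀, ha₀, ha₀0, hdiv⟩ := hc (f.support.image f.coeff)
    ⟨f.coeff s, Finset.mem_image_of_mem _ (MvPolynomial.mem_support_iff.2 hs), hs⟩
  choose! c hc' using hdiv
  obtain ⟨s₀, hs₀, rfl⟩ := Finset.mem_image.1 ha₀
  let g : MvPolynomial ι R := ∑ m ∈ f.support, MvPolynomial.monomial m (c (f.coeff m))
  have hg : MvPolynomial.C u * f = MvPolynomial.C (f.coeff s₀) * g := by
    conv_lhs => rw [f.as_sum]
    simp only [g, Finset.mul_sum, MvPolynomial.C_mul_monomial]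
    refine Finset.sum_congr rfl fun m hm => ?_
    rw [hc' _ (Finset.mem_image_of_mem _ hm), mul_comm]
  have hg0 : MvPolynomial.aeval x g = 0 := by
    have := congrArg (MvPolynomial.aeval (R := R) x) hg
    rw [map_mul, map_mul, hf, mul_zero, MvPolynomial.aeval_C] at this
    exact (mul_eq_zero.1 this.symm).resolve_left
      ((map_ne_zero_iff _ (FaithfulSMul.algebraMap_injective R S)).2 ha₀0)
  have hcoef := h g (hg0 ▸ Q.zero_mem) s₀
  simp only [g, MvPolynomial.coeff_sum, MvPolynomial.coeff_monomial, Finset.sum_ite_eq', if_pos hs₀]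
    at hcoef
  have : u = c (f.coeff s₀) := mul_right_cancel₀ (b := algebraMap R S (f.coeff s₀))
    ((map_ne_zero_iff _ (FaithfulSMul.algebraMap_injective R S)).2 ha₀0) (by
      rw [← map_mul, ← map_mul, hc' _ (Finset.mem_image_of_mem _ hs₀)]) |>
    fun e => FaithfulSMul.algebraMap_injective R S e
  exact hu (this ▸ hcoef)

/-- An isolated prime in its fibre over a polynomial subalgebra makes the algebra algebraic over
that subalgebra (Zariski's main theorem). -/
theorem algMod_bot_of_isolated [IsDomain S] [Algebra.FiniteType R S] {Q : Ideal S}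
    [Q.IsPrime] {ι : Type*} [Finite ι] {x : ι → S} (hx : AlgebraicIndependent R x)
    (hmax : ∀ J : Ideal S, J.IsPrime → Q ≤ J →
      (∀ f : MvPolynomial ι R, MvPolynomial.aeval x f ∈ J → MvPolynomial.aeval x f ∈ Q) → J = Q)
    (hmin : ∀ Q' : Ideal S, Q'.IsPrime → Q' ≤ Q → Q'.under R = Q.under R → Q' = Q) :
    AlgMod (R := R) (⊥ : Ideal S) x := by
  let T := MvPolynomial ι R
  letI : Algebra T S := (MvPolynomial.aeval (R := R) x).toRingHom.toAlgebra
  haveI : IsScalarTower R T S :=
    IsScalarTower.of_algebraMap_eq fun r => ((MvPolynomial.aeval (R := R) x).commutes r).symm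
  haveI : Algebra.FiniteType T S := Algebra.FiniteType.of_restrictScalars_finiteType R T S
  haveI : IsDomain T := Function.Injective.isDomain (algebraMap T S) hx
  have hunder : ∀ Q' : Ideal S, Q'.under T = Q.under T → Q'.under R = Q.under R := fun Q' h => by
    rw [← Ideal.under_under (B := T) Q', h, Ideal.under_under]
  haveI : Algebra.QuasiFiniteAt T Q := by
    let q : PrimeSpectrum S := ⟨Q, inferInstance⟩
    refine Algebra.QuasiFiniteAt.of_isOpen_singleton_fiber q ?_
    let t := q.comap (algebraMap T S)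
    let e := PrimeSpectrum.preimageHomeomorphFiber T S t
    rw [← e.isOpen_image, Set.image_singleton]
    haveI : IsNoetherianRing (t.asIdeal.Fiber S) :=
      Algebra.FiniteType.isNoetherianRing t.asIdeal.ResidueField _
    haveI : IsJacobsonRing (t.asIdeal.Fiber S) :=
      isJacobsonRing_of_finiteType (A := t.asIdeal.ResidueField)
    refine ((PrimeSpectrum.isOpen_singleton_tfae_of_isNoetherian_of_isJacobsonRing _).out 0 2
      rfl rfl).2 ⟨?_, ?_⟩
    · rw [PrimeSpectrum.isClosed_singleton_iff_isMaximal, ← PrimeSpectrum.isMax_iff]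
      intro z hz
      obtain ⟨z, rfl⟩ := e.surjective z
      have hle : Q ≤ z.1.asIdeal := (PrimeSpectrum.preimageOrderIsoFiber T S t).le_iff_le.1 hz
      refine (PrimeSpectrum.preimageOrderIsoFiber T S t).le_iff_le.2 (le_of_eq (Subtype.ext (PrimeSpectrum.ext ?_)))
      have h2 : z.1.asIdeal.under T = Q.under T := congrArg PrimeSpectrum.asIdeal z.2
      exact hmax z.1.asIdeal z.1.isPrime hle fun f h1 => (h2 ▸ h1 : f ∈ Q.under T)
    · intro z₀ z hz hz₀
      rw [Set.mem_singleton_iff] at hz₀ ⊢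
      subst hz₀
      obtain ⟨z, rfl⟩ := e.surjective z
      rw [← PrimeSpectrum.le_iff_specializes] at hz
      have hle : z.1.asIdeal ≤ Q := (PrimeSpectrum.preimageOrderIsoFiber T S t).le_iff_le.1 hz
      have := hmin z.1.asIdeal z.1.isPrime hle (hunder _ (congrArg PrimeSpectrum.asIdeal z.2))
      exact congrArg e (Subtype.ext (PrimeSpectrum.ext this))
  obtain ⟨r, hr, hrint, hall⟩ := Algebra.zariskisMainProperty_iff.1
    (Algebra.ZariskisMainProperty.of_finiteType (R := T) Q)
  have hr0 : r ≠ 0 := fun h => hr (h ▸ Q.zero_mem)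
  intro y
  obtain ⟨m, hm⟩ := hall y
  have halg : IsAlgebraic T y := by
    refine IsAlgebraic.of_mul (mem_nonZeroDivisors_of_ne_zero (pow_ne_zero m hr0))
      (hrint.pow m).isAlgebraic ?_
    exact hm.isAlgebraic
  obtain ⟨g, hg, hgy⟩ := halg
  obtain ⟨i, hi⟩ := Polynomial.support_nonempty.2 hg
  refine ⟨g, ⟨i, fun h => Polynomial.mem_support_iff.1 hi (hx ?_)⟩, ?_⟩
  · rw [map_zero]
    exact Submodule.mem_bot (R := S) |>.1 h
  · rw [Submodule.mem_bot]
    rw [Polynomial.aeval_def] at hgy
    exact hgy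

/-- Modulo a prime minimal in its fibre the transcendence degree does not drop: the algebra is
algebraic over lifts of generators of the residual extension. -/
theorem algMod_bot_of_minimal [IsDomain S] [Algebra.FiniteType R S] {Q : Ideal S}
    [Q.IsPrime] {ι : Type*} [Finite ι] {x : ι → S} (hx : AlgebraicIndependent R x)
    (ha : AlgMod (R := R) Q x)
    (hmin : ∀ Q' : Ideal S, Q'.IsPrime → Q' ≤ Q → Q'.under R = Q.under R → Q' = Q) :
    AlgMod (R := R) (⊥ : Ideal S) x := by
  refine algMod_bot_of_isolated hx (fun J _ hJ hf => le_antisymm (fun y hy => ?_) hJ) hmin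
  by_contra hyQ
  obtain ⟨f, hf', hfJ⟩ := ha.exists_notMem_sup hyQ
  exact hf' (hf f (hfJ J hJ hy))

theorem trdeg_eq_of_algMod_bot {S : Type u} [CommRing S] [IsDomain S] [Algebra R S] [IsDomain R]
    {e : ℕ} {x : Fin e → S} (hx : AlgebraicIndependent R x)
    (ha : AlgMod (R := R) (⊥ : Ideal S) x) : Algebra.trdeg R S = e := by
  let T := MvPolynomial (Fin e) R
  letI : Algebra T S := (MvPolynomial.aeval (R := R) x).toRingHom.toAlgebra
  haveI : IsScalarTower R T S :=
    IsScalarTower.of_algebraMap_eq fun r => ((MvPolynomial.aeval (R := R) x).commutes r).symm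
  haveI : FaithfulSMul T S := (faithfulSMul_iff_algebraMap_injective T S).2 hx
  haveI : Algebra.IsAlgebraic T S := ⟨fun y => by
    obtain ⟨g, ⟨i, hi⟩, hgy⟩ := ha y
    refine ⟨g, fun h => hi (by simp [h]), ?_⟩
    rw [Polynomial.aeval_def]
    exact (Submodule.mem_bot S).1 hgy⟩
  rw [← trdeg_add_eq R T (A := S), trdeg_eq_zero (R := T) (A := S), add_zero,
    MvPolynomial.trdeg_of_isDomain]
  simp

end GrothLib.SemiPrufer
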