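import Groth.Agent.Lib.Ample.ModTwistMap
import Groth.Agent.Lib.Cohom.Serre
import Groth.Agent.Lib.Cohom.HomologySections
import Groth.Agent.Lib.Cohom.Exact
import Groth.Agent.Lib.QCoh.GenericPoint
import Groth.Agent.Lib.QCoh.ToSheaf
import Groth.Agent.Lib.Cohom.LinearLES

/-! Twisting short exact sequences (a slim copy of the parts of `SerreVanish.Main` and `CMReg.Koszul`
needed for vanishing arguments). -/

set_option linter.style.haveILetI false
set_option backward.isDefEq.respectTransparency false

universe u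

open CategoryTheory CategoryTheory.Limits AlgebraicGeometry TopologicalSpace Opposite Abelian

noncomputable section

namespace GrothLib.SemiPrufer.Tw

open GrothLib.InvExt (mres)
open GrothLib.Ample (Cocycle res)

variable {X : Scheme.{u}}

theorem isIso_of_bijective {M N : X.Modules} (φ : M ⟶ N) (h : ∀ V, Function.Bijective (φ.app V)) :
    IsIso φ := by
  rw [Scheme.Modules.Hom.isIso_iff_isIso_app]
  intro V
  rw [ConcreteCategory.isIso_iff_bijective]
  exact h V

section HH

/-- Vanishing is invariant under isomorphism. -/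
theorem subsingleton_of_iso {M N : X.Modules} (e : M ≅ N) {q : ℕ} (h : Subsingleton (Coh.HH X M q)) :
    Subsingleton (Coh.HH X N q) := by
  refine subsingleton_of_forall_eq 0 fun x => ?_
  have h1 : Sheaf.H.map ((QCoh.toAbFun X).map (e.inv ≫ e.hom)) q x = x := by
    rw [e.inv_hom_id, CategoryTheory.Functor.map_id]
    exact Sheaf.H.map_id_apply (F := Coh.toAb N) (n := q) x
  rw [← h1, Functor.map_comp, Sheaf.H.map_comp_apply,
    Subsingleton.elim (α := Coh.HH X M q) (Sheaf.H.map ((QCoh.toAbFun X).map e.inv) q x) 0, map_zero]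

variable {S : ShortComplex X.Modules} (hS : S.ShortExact)

include hS in
theorem subsingleton_X₂ {q : ℕ} (h₁ : Subsingleton (Coh.HH X S.X₁ q)) (h₃ : Subsingleton (Coh.HH X S.X₃ q)) :
    Subsingleton (Coh.HH X S.X₂ q) := by
  refine subsingleton_of_forall_eq 0 fun x => ?_
  obtain ⟨y, hy⟩ := Ext.covariant_sequence_exact₂ _ (QCoh.toAbFun_map_shortExact S hS)
    (show Ext.{u} _ (S.map (QCoh.toAbFun X)).X₂ q from x) (Subsingleton.elim (α := Coh.HH X S.X₃ q) _ _)
  obtain rfl : y = 0 := Subsingleton.elim (α := Coh.HH X S.X₁ q) y 0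
  rw [Ext.zero_comp] at hy
  exact hy.symm

include hS in
theorem subsingleton_X₃ {q : ℕ} (h₂ : Subsingleton (Coh.HH X S.X₂ q))
    (h₁ : Subsingleton (Coh.HH X S.X₁ (q + 1))) : Subsingleton (Coh.HH X S.X₃ q) := by
  refine subsingleton_of_forall_eq 0 fun x => ?_
  obtain ⟨y, hy⟩ := Ext.covariant_sequence_exact₃ _ (QCoh.toAbFun_map_shortExact S hS)
    (show Ext.{u} _ (S.map (QCoh.toAbFun X)).X₃ q from x) rfl (Subsingleton.elim (α := Coh.HH X S.X₁ (q + 1)) _ _)
  obtain rfl : y = 0 := Subsingleton.elim (α := Coh.HH X S.X₂ q) y 0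
  rw [Ext.zero_comp] at hy
  exact hy.symm

include hS in
theorem subsingleton_X₁_succ {q : ℕ} (h₃ : Subsingleton (Coh.HH X S.X₃ q))
    (h₂ : Subsingleton (Coh.HH X S.X₂ (q + 1))) : Subsingleton (Coh.HH X S.X₁ (q + 1)) := by
  refine subsingleton_of_forall_eq 0 fun x => ?_
  obtain ⟨y, hy⟩ := Ext.covariant_sequence_exact₁ _ (QCoh.toAbFun_map_shortExact S hS)
    (show Ext.{u} _ (S.map (QCoh.toAbFun X)).X₁ (q + 1) from x) (Subsingleton.elim (α := Coh.HH X S.X₂ (q + 1)) _ _) rfl
  obtain rfl : y = 0 := Subsingleton.elim (α := Coh.HH X S.X₃ q) y 0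
  rw [Ext.zero_comp] at hy
  exact hy.symm

include hS in
theorem surjective_app_top (h₁ : Subsingleton (Coh.HH X S.X₁ 1)) : Function.Surjective (S.g.app ⊤) :=
  Cohom.sections_surjective (QCoh.toAbFun_map_shortExact S hS) ⊤
    (@Equiv.subsingleton _ _ (Cohom.HEquivTop (Coh.toAb S.X₁) 1).symm.toEquiv h₁)

theorem subsingleton_biprod {M N : X.Modules} {q : ℕ} (hM : Subsingleton (Coh.HH X M q))
    (hN : Subsingleton (Coh.HH X N q)) : Subsingleton (Coh.HH X (M ⊞ N) q) := by
  let S := ShortComplex.mk (biprod.inl : M ⟶ M ⊞ N) biprod.snd (by simp)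
  have hS : S.ShortExact := (ShortComplex.Splitting.ofHasBinaryBiproduct M N).shortExact
  exact subsingleton_X₂ hS hM hN

end HH

variable (c : Cocycle X)

section Twist

variable (M : X.Modules) {p q : ℕ} (n : ℕ)

/-- Twisting twice is twisting once. -/
def twistTwist (e : n + p = q) : c.modTwist (c.modTwist M p) n ⟶ c.modTwist M q :=
  ⟨{
    app := fun V => ModuleCat.ofHom
      (X := ((c.modTwist (c.modTwist M p) n).val.obj V : Type u))
      (Y := ((c.modTwist M q).val.obj V : Type u))
      { toFun := fun (b : c.msect (c.modTwist M p) n V.unop) =>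
          (⟨fun i => mres M (le_inf le_rfl inf_le_right) ((show c.msect M p (V.unop ⊓ c.D i) from b.1 i).1 i),
            fun i j W hi hj => by
              have hb := congrArg (fun t : c.msect M p W => t.1 i) (c.msect_spec b i j hi hj)
              change mres M (inf_le_inf_right (c.D i) hi) ((show c.msect M p (V.unop ⊓ c.D i) from b.1 i).1 i) =
                res (inf_le_left : W ⊓ c.D i ≤ W) _ •
                  mres M (inf_le_inf_right (c.D i) hj) ((show c.msect M p (V.unop ⊓ c.D j) from b.1 j).1 i) at hb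
              have hb' := congrArg (mres M (le_inf le_rfl (hi.trans inf_le_right) : W ≤ W ⊓ c.D i)) hb
              have hd := c.msect_spec (show c.msect M p (V.unop ⊓ c.D j) from b.1 j) i j (W := W)
                (le_inf hj (hi.trans inf_le_right)) (le_inf hj (hj.trans inf_le_right))
              simp only [InvExt.mres_mres, Ample.mres_smul', Ample.res_res] at hb' ⊢
              rw [hb', hd, smul_smul, ← e, pow_add]
              simp only [map_pow, Cocycle.res_G]⟩ : c.msect M q V.unop)
        map_add' := fun (b b' : c.msect (c.modTwist M p) n V.unop) => c.msect_ext fun i => map_add (M.presheaf.map _).hom _ _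
        map_smul' := fun (r : Γ(X, V.unop)) (b : c.msect (c.modTwist M p) n V.unop) => c.msect_ext fun i => by
          refine (Ample.mres_smul' M _ _ _).trans ?_
          simp only [Ample.res_res]
          rfl }
    naturality := fun {V W} f => by
      ext (b : c.msect (c.modTwist M p) n V.unop)
      refine c.msect_ext fun i => ?_
      exact (InvExt.mres_mres M _ _ _).trans (InvExt.mres_mres M _ _ _).symm }⟩

theorem twistTwist_app (e : n + p = q) {V : X.Opens} (b : c.msect (c.modTwist M p) n V) (i : c.ι) :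
    (show c.msect M q V from (twistTwist c M n e).app V b).1 i =
      mres M (le_inf le_rfl inf_le_right) ((show c.msect M p (V ⊓ c.D i) from b.1 i).1 i) := rfl

theorem twistTwist_app_bijective (e : n + p = q) (V : X.Opens) :
    Function.Bijective ((twistTwist c M n e).app V) := by
  refine ⟨fun (b : c.msect (c.modTwist M p) n V) b' h => c.msect_ext fun i => ?_,
    fun (t : c.msect M q V) => ?_⟩
  · refine c.msect_ext_of_le (V := V ⊓ c.D i) (i := i) inf_le_right ?_
    have := congrArg (fun s : c.msect M q V => mres M (inf_le_left : (V ⊓ c.D i) ⊓ c.D i ≤ V ⊓ c.D i) (s.1 i)) h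
    simp only [twistTwist_app, InvExt.mres_mres, InvExt.mres_self] at this
    exact this
  · refine ⟨⟨fun i => c.mbase p i inf_le_right (t.1 i), fun i j W hi hj => ?_⟩, c.msect_ext fun i => ?_⟩
    · subst e
      refine c.msect_ext_of_le (V := W) (i := i) (hi.trans inf_le_right) ?_
      change mres M (inf_le_inf_right (c.D i) hi) ((c.mbase p i inf_le_right (t.1 i)).1 i) =
        res (inf_le_left : W ⊓ c.D i ≤ W) _ •
          mres M (inf_le_inf_right (c.D i) hj) ((c.mbase p j inf_le_right (t.1 j)).1 i)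
      have hd := c.msect_spec (c.mbase p j inf_le_right (t.1 j) : c.msect M p (V ⊓ c.D j)) i j (W := W ⊓ c.D i)
        (le_inf (inf_le_left.trans hj) inf_le_right)
        (le_inf (inf_le_left.trans hj) (inf_le_left.trans (hj.trans inf_le_right)))
      have ht := c.msect_spec t i j (W := W ⊓ c.D i) (inf_le_left.trans hi) (inf_le_left.trans hj)
      rw [Cocycle.mbase_self, InvExt.mres_mres, ht, hd, Cocycle.mbase_self, InvExt.mres_mres, pow_add,
        smul_smul]
      simp only [map_pow, Ample.res_res, Cocycle.res_G]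
    · rw [twistTwist_app]
      change mres M _ ((c.mbase p i inf_le_right (t.1 i)).1 i) = _
      rw [Cocycle.mbase_self, InvExt.mres_mres, InvExt.mres_self]

instance isIso_twistTwist (e : n + p = q) : IsIso (twistTwist c M n e) :=
  isIso_of_bijective _ (twistTwist_app_bijective c M n e)

theorem mtwistMap_comp {M N P : X.Modules} (φ : M ⟶ N) (ψ : N ⟶ P) (n : ℕ) :
    c.mtwistMap (φ ≫ ψ) n = c.mtwistMap φ n ≫ c.mtwistMap ψ n :=
  Scheme.Modules.hom_ext _ _ fun V => by
    ext (b : c.msect M n V)
    rfl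

theorem mtwistMap_zero {M N : X.Modules} (n : ℕ) : c.mtwistMap (0 : M ⟶ N) n = 0 :=
  Scheme.Modules.hom_ext _ _ fun V => by
    ext (b : c.msect M n V)
    exact c.msect_ext fun i => rfl

/-- The twist of a short complex. -/
abbrev twistSeq (S : ShortComplex X.Modules) : ShortComplex X.Modules :=
  ShortComplex.mk (c.mtwistMap S.f n) (c.mtwistMap S.g n)
    (by rw [← mtwistMap_comp, S.zero, mtwistMap_zero])

theorem twistSeq_shortExact {S : ShortComplex X.Modules} (hS : S.ShortExact) :
    (twistSeq c n S).ShortExact := by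
  have hf : ∀ V, Function.Injective (S.f.app V) := fun V =>
    haveI := hS.mono_f
    Cohom.app_injective_of_mono S.f V
  have hex : ∀ (V : X.Opens) (b : Γ(S.X₂, V)), S.g.app V b = 0 → ∃ a, S.f.app V a = b := fun V b hb =>
    Cohom.sections_exact (QCoh.toAbFun_map_shortExact S hS) V b hb
  haveI hmono : Mono (c.mtwistMap S.f n) :=
    QCoh.mono_of_app_injective _ (c.mtwistMap_app_injective _ _ hf)
  haveI hepi : Epi (c.mtwistMap S.g n) := by
    refine ⟨fun {Z} u v huv => Scheme.Modules.hom_ext _ _ fun V => ?_⟩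
    ext (y : c.msect S.X₃ n V)
    haveI := hS.epi_g
    choose l hl using c.exists_mem
    choose W hW hxW t ht using fun x : V =>
      Cocyc.exists_local_preimage S.g (V := V ⊓ c.D (l x.1)) (y.1 (l x.1)) x.1 ⟨x.2, hl x.1⟩
    refine Ample.meq_of_cover Z W (fun x => (hW x).trans inf_le_left)
      (fun x hx => Opens.mem_iSup.2 ⟨⟨x, hx⟩, hxW ⟨x, hx⟩⟩) fun x => ?_
    rw [← Ample.app_mres, ← Ample.app_mres]
    let b : c.msect S.X₂ n (W x) := c.mbase n (l x.1) ((hW x).trans inf_le_right) (t x)
    have hb : mres (c.modTwist S.X₃ n) ((hW x).trans inf_le_left) y = (c.mtwistMap S.g n).app (W x) b := by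
      refine c.msect_ext_of_le ((hW x).trans inf_le_right) ?_
      change mres S.X₃ _ (y.1 (l x.1)) = S.g.app _ (b.1 (l x.1))
      rw [Cocycle.mbase_self, Ample.app_mres, ht x]
      exact (InvExt.mres_mres S.X₃ (hW x) (inf_le_left : W x ⊓ c.D (l x.1) ≤ W x) (y.1 (l x.1))).symm
    rw [hb]
    exact congrArg (fun φ : c.modTwist S.X₂ n ⟶ Z => φ.app (W x) b) huv
  refine ShortComplex.ShortExact.mk' ?_ hmono hepi
  let K := kernel (c.mtwistMap S.g n)
  let φ : c.modTwist S.X₁ n ⟶ K := kernel.lift _ (c.mtwistMap S.f n) (twistSeq c n S).zero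
  have hφ : φ ≫ kernel.ι _ = c.mtwistMap S.f n := kernel.lift_ι _ _ _
  haveI : IsIso φ := isIso_of_bijective _ fun V => by
    refine ⟨fun a b hab => ?_, fun w => ?_⟩
    · refine c.mtwistMap_app_injective _ _ hf V ?_
      rw [← hφ]
      exact congrArg ((kernel.ι (c.mtwistMap S.g n)).app V) hab
    · let z : c.msect S.X₂ n V := (kernel.ι (c.mtwistMap S.g n)).app V w
      have hz : ∀ i, S.g.app (V ⊓ c.D i) (z.1 i) = 0 := fun i =>
        congrArg (fun s : c.msect S.X₃ n V => s.1 i)
          (congrArg (fun ψ : K ⟶ c.modTwist S.X₃ n => ψ.app V w) (kernel.condition (c.mtwistMap S.g n)))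
      choose a ha using fun i => hex _ (z.1 i) (hz i)
      refine ⟨(⟨a, fun i j U hi hj => hf U ?_⟩ : c.msect S.X₁ n V), ?_⟩
      · rw [Ample.app_mres, Ample.app_smul, Ample.app_mres, ha, ha]
        exact c.msect_spec z i j hi hj
      · refine Cohom.app_injective_of_mono (kernel.ι (c.mtwistMap S.g n)) V ?_
        refine (congrArg (fun ψ : c.modTwist S.X₁ n ⟶ c.modTwist S.X₂ n => ψ.app V _) hφ).trans ?_
        exact c.msect_ext fun i => ha i
  exact ShortComplex.exact_of_f_is_kernel _ (IsLimit.ofIsoLimit (kernelIsKernel (c.mtwistMap S.g n))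
    (Fork.ext (asIso φ) hφ).symm)

end Twist

end GrothLib.SemiPrufer.Tw
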