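import Groth.Agent.Lib.SemiPrufer.SheafFP
import Groth.Agent.Lib.SemiPrufer.TwistSeq
import Groth.Agent.Lib.Euler.Coh
import Groth.Agent.Lib.Ample.FiniteGen
import Groth.Agent.Lib.Ample.ProjAmple
import Groth.Agent.Lib.Ample.CocTensor
import Groth.Agent.Lib.OX.FlatLocFree
import Groth.Agent.Lib.DCoh.LocFree
import Groth.Agent.Lib.ProjCohom.Results
import Groth.Agent.Lib.CurveMult.ProjSmooth
import Groth.Agent.Lib.Cohom.Compare
import Groth.Agent.Lib.GrTilde.Mul

/-! Serre vanishing for finitely presented modules on flat projective schemes over Prüfer domains. -/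

set_option autoImplicit false
set_option linter.style.haveILetI false
set_option backward.isDefEq.respectTransparency false

universe u

open CategoryTheory CategoryTheory.Limits AlgebraicGeometry TopologicalSpace Opposite

noncomputable section

namespace GrothLib.SemiPrufer

open GrothLib.Ample (Cocycle)

variable {X : Scheme.{u}} (c : Cocycle X)

/-- The twists of `M` eventually have no cohomology in degree `q`. -/
def EvVan (q : ℕ) (M : X.Modules) : Prop :=
  ∃ n₀, ∀ n, n₀ ≤ n → Subsingleton (Coh.HH X (c.modTwist M n) q)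

/-- Twisting an isomorphism. -/
def twistIso {M N : X.Modules} (e : M ≅ N) (n : ℕ) : c.modTwist M n ≅ c.modTwist N n where
  hom := c.mtwistMap e.hom n
  inv := c.mtwistMap e.inv n
  hom_inv_id := by
    rw [← Tw.mtwistMap_comp, e.hom_inv_id]
    exact Scheme.Modules.hom_ext _ _ fun V => rfl
  inv_hom_id := by
    rw [← Tw.mtwistMap_comp, e.inv_hom_id]
    exact Scheme.Modules.hom_ext _ _ fun V => rfl

theorem evVan_of_iso {M N : X.Modules} (e : M ≅ N) {q : ℕ} (h : EvVan c q M) : EvVan c q N := by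
  obtain ⟨n₀, h⟩ := h
  exact ⟨n₀, fun n hn => Tw.subsingleton_of_iso (twistIso c e n) (h n hn)⟩

theorem evVan_biprod {M N : X.Modules} {q : ℕ} (hM : EvVan c q M) (hN : EvVan c q N) :
    EvVan c q (M ⊞ N) := by
  obtain ⟨a, ha⟩ := hM
  obtain ⟨b, hb⟩ := hN
  let S := ShortComplex.mk (biprod.inl : M ⟶ M ⊞ N) biprod.snd (by simp)
  have hS : S.ShortExact := (ShortComplex.Splitting.ofHasBinaryBiproduct M N).shortExact
  exact ⟨max a b, fun n hn => Tw.subsingleton_X₂ (Tw.twistSeq_shortExact c n hS)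
    (ha n (le_trans (le_max_left _ _) hn)) (hb n (le_trans (le_max_right _ _) hn))⟩

theorem evVan_zero {M : X.Modules} (h : IsZero M) (q : ℕ) : EvVan c q M := by
  refine ⟨0, fun n _ => ?_⟩
  have hz : IsZero (c.modTwist M n) := by
    rw [IsZero.iff_id_eq_zero, ← Tw.mtwistMap_zero (c := c) (M := M) (N := M) n,
      ← (IsZero.iff_id_eq_zero M).1 h]
    exact Scheme.Modules.hom_ext _ _ fun V => rfl
  refine subsingleton_of_forall_eq 0 fun x => ?_
  rw [show x = Sheaf.H.map ((QCoh.toAbFun X).map (𝟙 (c.modTwist M n))) q x by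
    rw [CategoryTheory.Functor.map_id]; exact (Sheaf.H.map_id_apply _).symm,
    hz.eq_of_src (𝟙 _) (0 : _ ⟶ _), Functor.map_zero]
  rw [Cohom.H_map_eq_comp, Abelian.Ext.mk₀_zero, Abelian.Ext.comp_zero]

theorem evVan_freeMod {q : ℕ} (hO : EvVan c q (Coh.structureModule X)) :
    ∀ r, EvVan c q (FlatMod.freeMod X r) := by
  intro r
  induction r with
  | zero =>
    refine evVan_zero c ?_ q
    rw [IsZero.iff_id_eq_zero]
    exact Sigma.hom_ext _ _ fun i => i.elim0
  | succ r ih =>
    refine evVan_of_iso c (DCoh.freeModBiprodIso X r 1) (evVan_biprod c ih ?_)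
    exact evVan_of_iso c (coproductUniqueIso fun _ : Fin 1 => Coh.structureModule X).symm hO

theorem isFP_of_finLocFree (M : X.Modules) [M.IsQuasicoherent] (h : FlatMod.IsFinLocFree M) :
    CohB1.IsFP M := by
  choose U n e hx he using fun x : X => FinCov.exists_frame_nhd h x
  choose V hV hxV hVU using fun x : X => exists_isAffineOpen_mem_and_subset (hx x)
  refine FlatFP.isFP_of_sections M V (top_le_iff.mp fun x _ => Opens.mem_iSup.mpr ⟨x, hxV x⟩) hV
    fun x => ?_
  have := Module.Free.of_basis ((he x).basis (V x) (hVU x))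
  have := Module.Finite.of_basis ((he x).basis (V x) (hVU x))
  exact Module.finitePresentation_of_projective _ _

/-- Descending induction: vanishing for the twists of the structure module gives vanishing for
all finitely presented modules. -/
theorem evVan_of_fp (A : Type u) [CommRing A] [X.Over (Spec (CommRingCat.of A))] [CompactSpace X]
    (hc : c.IsAmp)
    (hker : ∀ (G H : X.Modules), CohB1.IsFP G → CohB1.IsFP H → ∀ (p : G ⟶ H) [Epi p],
      CohB1.IsFP (kernel p))
    (hO : ∀ q, 1 ≤ q → EvVan c q (Coh.structureModule X)) (G : X.Modules) (hG : CohB1.IsFP G) :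
    ∃ N, ∀ n, N ≤ n → ∀ q, 1 ≤ q → Subsingleton (Coh.HH X (c.modTwist G n) q) := by
  classical
  haveI := c.quasiSeparatedSpace_of_isAmp hc
  obtain ⟨B, hB⟩ := Cohom.exists_vanishFrom_of_isCompact (X := X) (V := ⊤) isCompact_univ
  have main : ∀ k q, 1 ≤ q → B ≤ q + k → ∀ G : X.Modules, CohB1.IsFP G → EvVan c q G := by
    intro k
    induction k with
    | zero =>
      intro q _ hBq G hG
      haveI := qcoh_of_isFP hG
      refine ⟨0, fun n _ => ?_⟩
      haveI := c.isQuasicoherent_modTwist G n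
      exact (hB _).subsingleton_HH (by omega)
    | succ k ih =>
      intro q hq hBq G hG
      haveI := qcoh_of_isFP hG
      have hfin : ∀ p : X, ∃ O : X.Opens, p ∈ O ∧ ∀ W : X.Opens, IsAffineOpen W → W ≤ O →
          Module.Finite Γ(X, W) Γ(G, W) := fun p => ⟨⊤, trivial, fun W hW _ => by
        haveI := FlatFP.finitePresentation_sections G hG hW
        infer_instance⟩
      obtain ⟨k₀, hk₀⟩ := c.eventually_spanned G hc hfin
      haveI := c.isQuasicoherent_modTwist G k₀
      obtain ⟨r, t, ht⟩ := Ample.exists_finite_spanned (c.modTwist G k₀) (c.finite_modTwist G k₀ hfin)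
        (fun s : c.msect G k₀ ⊤ => s) fun O μ x hx => hk₀ k₀ le_rfl O μ x hx
      obtain ⟨p, hp⟩ := Ample.exists_epi_free (F := c.modTwist G k₀)
        (fun i => (t i : c.msect G k₀ ⊤)) ht
      haveI : (FlatMod.freeMod X r).IsQuasicoherent := Euler.isQuasicoherent_freeMod X r
      have hfree : CohB1.IsFP (FlatMod.freeMod X r) :=
        isFP_of_finLocFree _ (OX.isFinLocFree_freeMod X r)
      have hK := hker _ _ hfree (isFP_modTwist c G hG k₀) p
      obtain ⟨a, ha⟩ := ih (q + 1) (by omega) (by omega) _ hK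
      obtain ⟨b, hb⟩ := evVan_freeMod c (hO q hq) r
      let S : ShortComplex X.Modules := ShortComplex.mk (kernel.ι p) p (kernel.condition p)
      have hS : S.ShortExact := { exact := ShortComplex.exact_kernel p }
      refine ⟨k₀ + max a b, fun n hn => ?_⟩
      obtain ⟨i, rfl⟩ : ∃ i, n = i + k₀ := ⟨n - k₀, by omega⟩
      exact Tw.subsingleton_of_iso
        (asIso (Tw.twistTwist c G i (p := k₀) (q := i + k₀) rfl))
        (Tw.subsingleton_X₃ (Tw.twistSeq_shortExact c i hS)
          (hb i (by omega)) (ha i (by omega)))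
  have hall : ∀ q, 1 ≤ q → EvVan c q G := fun q hq => main B q hq (by omega) G hG
  choose N hN using hall
  refine ⟨(Finset.range B).sup (fun q => if h : 1 ≤ q then N q h else 0), fun n hn q hq => ?_⟩
  by_cases hqB : B ≤ q
  · haveI := qcoh_of_isFP hG
    haveI := c.isQuasicoherent_modTwist G n
    exact (hB _).subsingleton_HH hqB
  · refine hN q hq n (le_trans ?_ hn)
    have := Finset.le_sup (f := fun q => if h : 1 ≤ q then N q h else 0)
      (Finset.mem_range.2 (not_le.1 hqB))
    rwa [dif_pos hq] at this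

/-- The comparison of the twisted structure module with the twist. -/
theorem nonempty_modTwist_structure (n : ℕ) :
    Nonempty (c.modTwist (Coh.structureModule X) n ≅ c.twist n) := by
  obtain ⟨e⟩ := c.nonempty_tensor_modTwist (Coh.structureModule X) n
  exact ⟨e.symm ≪≫ OX.tensorUnitLeftIso (c.twist n)⟩

/-- Serre vanishing on a flat closed subscheme of projective space over a Prüfer domain. -/
theorem exists_vanishing {R : Type u} [CommRing R] [IsDomain R]
    (hR : ∀ (p : Ideal R) [p.IsPrime], ValuationRing (Localization.AtPrime p)) (d : ℕ) {Z : Scheme.{u}}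
    (ι : Z ⟶ CohB1.ProjSpace d R) [IsClosedImmersion ι]
    [Flat (ι ≫ CohB1.ProjSpace.toSpec d R)] (F : Z.Modules) (hF : CohB1.IsFP F) :
    ∃ N : ℕ, ∀ n, N ≤ n → ∀ q, 1 ≤ q → Subsingleton (Coh.HH Z (CohB1.tensorMod F
      (CohB1.tensorPow ((Scheme.Modules.pullback ι).obj (Twist.twistProjSpace d R 1)) n)) q) := by
  let s := CohB1.ProjSpace.toSpec d R
  haveI hsm : Smooth s := CurveMult.smooth_toSpec d R
  letI : (CohB1.ProjSpace d R).Over (Spec (CommRingCat.of R)) := ⟨s⟩
  have hamp := Ample.isAmple_twistProjSpace_one d R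
  obtain ⟨c, ⟨e⟩⟩ := Ample.exists_cocycle hamp.1
  obtain ⟨hcs, hc⟩ := (c.isAmple_iff e).1 hamp
  haveI := hcs
  have hO : ∀ q, 1 ≤ q → EvVan c q (Coh.structureModule (CohB1.ProjSpace d R)) := fun q hq => by
    refine ⟨0, fun n _ => ?_⟩
    obtain ⟨f⟩ := c.nonempty_tensorPow_iso e n
    obtain ⟨g⟩ := nonempty_modTwist_structure c n
    have h1 : ∀ p : Proj (CohB1.polyGrading d R), ∃ f : MvPolynomial (Fin (d + 1)) R,
        f ∈ CohB1.polyGrading d R 1 ∧ f ∉ p.asHomogeneousIdeal := fun p => by
      obtain ⟨i, hi⟩ := Opens.mem_iSup.mp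
        ((Ample.ProjMap.iSup_basicOpen_X d R).ge (Opens.mem_top p))
      exact ⟨MvPolynomial.X i, Ample.ProjMap.X_mem i, hi⟩
    obtain ⟨g'⟩ := GrTilde.nonempty_twist_iso_tensorPow (𝒜 := CohB1.polyGrading d R) h1 n
    exact Tw.subsingleton_of_iso (g' ≪≫ f ≪≫ g.symm)
      (ProjCohom.subsingleton_HH (n := d) (R := R) (d := (n : ℤ)) (by omega) (by omega))
  haveI := qcoh_of_isFP hF
  obtain ⟨N, hN⟩ := evVan_of_fp c R hc (fun G H hG hH p _ => isFP_kernel hR s G H hG hH p) hO
    ((Scheme.Modules.pushforward ι).obj F) (isFP_pushforward hR ι s F hF)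
  refine ⟨N, fun n hn q hq => ?_⟩
  obtain ⟨w⟩ := c.nonempty_push_modTwist ι F n
  haveI := (c.comap ι).isQuasicoherent_modTwist F n
  obtain ⟨h⟩ := Cohom.nonempty_HH_equiv_pushforward ι ((c.comap ι).modTwist F n) q
  haveI : Subsingleton (Coh.HH _ ((Scheme.Modules.pushforward ι).obj ((c.comap ι).modTwist F n)) q) :=
    Tw.subsingleton_of_iso w.symm (hN n hn q hq)
  have h0 : Subsingleton (Coh.HH Z ((c.comap ι).modTwist F n) q) := h.toEquiv.subsingleton
  obtain ⟨e'⟩ := c.nonempty_pullback_iso ι e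
  obtain ⟨f⟩ := (c.comap ι).nonempty_tensorPow_iso e' n
  obtain ⟨g⟩ := (c.comap ι).nonempty_tensor_modTwist F n
  exact Tw.subsingleton_of_iso
    (g.symm ≪≫ ((DCoh.tensorBi (X := Z)).obj F).mapIso f.symm) h0

end GrothLib.SemiPrufer
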